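import Groth.Agent.DecShLib.Mult
import Groth.Agent.AmpleVan.Uniform
import Groth.Agent.HilbPoly.Pos
import Groth.Agent.Lib.Euler
import Groth.Agent.DivSect16.Basic
import Mathlib.Topology.Sober

/-!
# Sections avoiding finitely many points, and multiplication by them
-/

set_option autoImplicit false
set_option linter.style.haveILetI false
set_option linter.unusedSectionVars false
set_option backward.isDefEq.respectTransparency false
set_option backward.isDefEq.respectTransparency.types false
set_option maxHeartbeats 1000000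

universe u

open CategoryTheory CategoryTheory.Limits AlgebraicGeometry TopologicalSpace Opposite

noncomputable section

namespace Groth.Agent.DecShLib

open Groth.Agent

variable {X : Scheme.{u}} {N : X.Modules}

/-- Over an infinite field some combination of sections avoids finitely many points. -/
theorem exists_avoid_section (k : Type u) [Field k] [Infinite k] [X.Over (Spec (CommRingCat.of k))]
    (hN : PicF.IsInvertible N) {κ : Type u} [Finite κ] (σ : κ → (Coh.structureModule X ⟶ N))
    (hcov : ∀ x : X, ∃ j, x ∈ CohB1.genLocus N (σ j)) {S : Set X} (hS : S.Finite) :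
    ∃ s : Coh.structureModule X ⟶ N, ∀ x ∈ S, x ∈ CohB1.genLocus N s := by
  classical
  haveI := Fintype.ofFinite κ
  haveI := hS.to_subtype
  choose U hxU e he using fun x : X => InvX.exists_frame hN x
  choose g hg using fun (x : X) (j : κ) =>
    (he x).exists_coord (le_refl (U x)) (AModX.res N (le_top : U x ≤ ⊤) (InvX.one (σ j)))
  let φ : ∀ x : X, k →+* X.residueField x := fun x =>
    (X.evaluation (U x) x (hxU x)).hom.comp
      ((AModX.resR (le_top : U x ≤ ⊤)).comp (Coh.toGlobal (X ↘ Spec (CommRingCat.of k))))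
  let T : ∀ _ : S, Submodule k (κ → k) := fun x =>
    { carrier := {c | ∑ j, φ x.1 (c j) * (X.evaluation (U x.1) x.1 (hxU x.1)).hom (g x.1 j) = 0}
      add_mem' := fun {a b} ha hb => by
        simp only [Set.mem_setOf_eq, Pi.add_apply, map_add, add_mul, Finset.sum_add_distrib] at *
        rw [ha, hb, add_zero]
      zero_mem' := by simp
      smul_mem' := fun r a ha => by
        simp only [Set.mem_setOf_eq, Pi.smul_apply, smul_eq_mul, map_mul, mul_assoc] at *
        rw [← Finset.mul_sum, ha, mul_zero] }
  obtain ⟨c, hc⟩ : ∃ c, ∀ x, c ∉ T x := by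
    by_contra! h
    obtain ⟨x, hx⟩ := Subspace.exists_eq_top_of_iUnion_eq_univ (p := T)
      (Set.eq_univ_of_forall fun c => Set.mem_iUnion.2 (h c))
    obtain ⟨j, hj⟩ := hcov x.1
    have hmem : x.1 ∈ X.basicOpen (g x.1 j) := by
      rw [← InvX.genLocus_inf (σ j) (he x.1) (by simpa [AModX.res_self] using hg x.1 j)]
      exact ⟨hj, hxU x.1⟩
    have h1 : (Pi.single j 1 : κ → k) ∈ T x := hx ▸ Submodule.mem_top
    change ∑ i, φ x.1 ((Pi.single j 1 : κ → k) i) * _ = 0 at h1
    rw [Finset.sum_eq_single j (fun i _ hi => by rw [Pi.single_eq_of_ne hi, map_zero, zero_mul])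
      (fun h => absurd (Finset.mem_univ j) h), Pi.single_eq_same, map_one, one_mul] at h1
    exact (X.evaluation_ne_zero_iff_mem_basicOpen x.1 (hxU x.1) (g x.1 j)).2 hmem h1
  let t : Γ(N, ⊤) := ∑ j, (show Γ(X, ⊤) from Coh.toGlobal (X ↘ Spec (CommRingCat.of k)) (c j)) • InvX.one (σ j)
  refine ⟨InvX.ofSect t, fun x hx => ?_⟩
  let G : Γ(X, U x) := ∑ j,
    AModX.resR (le_top : U x ≤ ⊤) (Coh.toGlobal (X ↘ Spec (CommRingCat.of k)) (c j)) * g x j
  have hG : AModX.res N (le_top : U x ≤ ⊤) (InvX.one (InvX.ofSect t)) = G • e x := by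
    rw [InvX.one_ofSect, map_sum, Finset.sum_smul]
    refine Finset.sum_congr rfl fun j _ => ?_
    rw [AModX.res_smul, hg x j, AModX.res_self, mul_smul]
  have hGx : x ∈ X.basicOpen G := by
    refine (X.evaluation_ne_zero_iff_mem_basicOpen x (hxU x) G).1 ?_
    intro h0
    refine hc ⟨x, hx⟩ ?_
    refine Eq.trans ?_ h0
    exact ((map_sum (X.evaluation (U x) x (hxU x)).hom _ _).trans
      (Finset.sum_congr rfl fun j _ => map_mul _ _ _)).symm
  rw [← InvX.genLocus_inf (InvX.ofSect t) (he x) hG] at hGx
  exact hGx.1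

/-- Multiplication by a section is the one of `HilbPoly`. -/
theorem mulSec_eq_mulHom (s : Coh.structureModule X ⟶ N) (M : X.Modules) :
    AmpleVan.mulSec (InvX.one s) M = HilbPoly.mulHom s M := by
  refine QCoh.hom_ext_app fun U t => ?_
  rw [AmpleVan.mulSec_app]
  show _ = (((DCoh.tensorBi (X := X)).obj M).map s).app U ((AmpleVan.twUnit.inv.app M).app U t)
  rw [AmpleVan.unit_inv_app]
  refine Eq.trans ?_ (DivSect16.map_tmul_right s t _).symm
  rw [InvX.app_eq_smul s (1 : Γ(X, U)), one_smul]

theorem isIso_restrict_mulSec (s : Coh.structureModule X ⟶ N) (M : X.Modules) :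
    IsIso ((Scheme.Modules.restrictFunctor (CohB1.genLocus N s).ι).map (AmpleVan.mulSec (InvX.one s) M)) := by
  haveI : IsIso ((Scheme.Modules.restrictFunctor (CohB1.genLocus N s).ι).map s) :=
    (InvX.isIso_restrict_iff s _).2 (AmpleX.res_genLocus_frame s)
  rw [mulSec_eq_mulHom]
  exact HilbPoly.isIso_restrict_mulHom s M

variable [IsNoetherian X] {M : X.Modules}

theorem notMem_support_kernel_mulSec (s : Coh.structureModule X ⟶ N) {x : X}
    (hx : x ∈ CohB1.genLocus N s) : x ∉ CohB1.support (kernel (AmpleVan.mulSec (InvX.one s) M)) := by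
  refine HilbPoly.notMem_support_of_isZero_restrict ?_ hx
  haveI := isIso_restrict_mulSec s M
  let φ := AmpleVan.mulSec (InvX.one s) M
  have h : (Scheme.Modules.restrictFunctor (CohB1.genLocus N s).ι).map (kernel.ι φ) = 0 := by
    rw [← cancel_mono ((Scheme.Modules.restrictFunctor (CohB1.genLocus N s).ι).map φ), ← Functor.map_comp,
      kernel.condition, Functor.map_zero, zero_comp]
  rw [IsZero.iff_id_eq_zero,
    ← cancel_mono ((Scheme.Modules.restrictFunctor (CohB1.genLocus N s).ι).map (kernel.ι φ)), h, comp_zero,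
    comp_zero]

theorem notMem_support_cokernel_mulSec (s : Coh.structureModule X ⟶ N) {x : X}
    (hx : x ∈ CohB1.genLocus N s) : x ∉ CohB1.support (cokernel (AmpleVan.mulSec (InvX.one s) M)) := by
  refine HilbPoly.notMem_support_of_isZero_restrict ?_ hx
  haveI := isIso_restrict_mulSec s M
  exact HilbPoly.isZero_restrict_cokernel _ _

/-- A section generating along the support gives an isomorphism. -/
theorem isIso_mulSec_of_subset (hN : PicF.IsInvertible N) (hM : Coh.IsCoh M) (s : Coh.structureModule X ⟶ N)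
    (h : CohB1.support M ⊆ (CohB1.genLocus N s : Set X)) : IsIso (AmpleVan.mulSec (InvX.one s) M) := by
  let φ := AmpleVan.mulSec (InvX.one s) M
  have hP : Coh.IsCoh ((AmpleVan.tw N).obj M) := AmpleVan.isCoh_tensor hM (AmpleVan.isCoh_invertible hN)
  have hK : Coh.IsCoh (kernel φ) := QCoh.isCoh_kernel hM hP φ
  have hC : Coh.IsCoh (cokernel φ) := QCoh.isCoh_cokernel hM.1 hP φ
  haveI : Mono φ := Preadditive.mono_of_isZero_kernel φ (CurveCohLib.isZero_of_subsingleton_stalks fun x =>
    not_not.1 fun hx => notMem_support_kernel_mulSec s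
      (h (QCoh.mem_support_of_mono hK.1 hM.1 (kernel.ι φ) hx)) hx)
  haveI : Epi φ := Preadditive.epi_of_isZero_cokernel φ (CurveCohLib.isZero_of_subsingleton_stalks fun x =>
    not_not.1 fun hx => notMem_support_cokernel_mulSec s
      (h (HilbPoly.support_tensor_subset _ _ (QCoh.support_of_epi hP.1 hC.1 (cokernel.π φ) hx))) hx)
  exact isIso_of_mono_of_epi φ

/-- On a space of dimension one a closed set avoiding the generic points consists of closed points. -/
theorem isClosed_singleton_of_avoid (hdim : topologicalKrullDim X = 1) {S : Set X} (hS : IsClosed S)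
    (hav : ∀ η ∈ genericPoints X, η ∉ S) {x : X} (hx : x ∈ S) : IsClosed ({x} : Set X) := by
  let C := irreducibleComponent x
  obtain ⟨η, hη⟩ := QuasiSober.sober (α := X) (isIrreducible_irreducibleComponent (x := x))
    (isClosed_irreducibleComponent (x := x))
  have hηg : η ∈ genericPoints X := by
    show closure {η} ∈ irreducibleComponents X
    rw [hη.def]
    exact irreducibleComponent_mem_irreducibleComponents x
  have hxη : x ∈ closure ({η} : Set X) := by rw [hη.def]; exact mem_irreducibleComponent
  have hne : η ∉ closure ({x} : Set X) := fun h =>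
    hav η hηg (hS.closure_subset_iff.2 (Set.singleton_subset_iff.2 hx) h)
  have hd : topologicalKrullDim ↥(closure ({η} : Set X)) ≤ ((1 : ℕ) : WithBot ℕ∞) :=
    (topologicalKrullDim_subspace_le X _).trans (by rw [hdim]; rfl)
  have hx0 : topologicalKrullDim ↥(closure ({x} : Set X)) ≤ ((0 : ℕ) : WithBot ℕ∞) :=
    HilbPoly.le_of_lt_succ (HilbPoly.dim_lt_closure (n := 0 + 1) hd isClosed_closure
      (isClosed_closure.closure_subset_iff.2 (Set.singleton_subset_iff.2 hxη)) hne)
  have := Euler.closure_eq_self_of_dim_le_zero isClosed_closure hx0 (subset_closure rfl : x ∈ closure ({x} : Set X))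
  rw [← this]
  exact isClosed_closure

/-- No submodules supported on closed points. -/
def NoPt (M : X.Modules) : Prop :=
  ∀ (K : X.Modules) (ι : K ⟶ M), Mono ι → Coh.IsCoh K →
    (∀ x ∈ CohB1.support K, IsClosed ({x} : Set X)) → IsZero K

theorem mono_mulSec (hdim : topologicalKrullDim X = 1) (hN : PicF.IsInvertible N) (hM : Coh.IsCoh M)
    (hp : NoPt M) (s : Coh.structureModule X ⟶ N) (hs : genericPoints X ⊆ CohB1.genLocus N s) :
    Mono (AmpleVan.mulSec (InvX.one s) M) ∧
      ∀ x ∈ CohB1.support (cokernel (AmpleVan.mulSec (InvX.one s) M)), IsClosed ({x} : Set X) := by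
  let φ := AmpleVan.mulSec (InvX.one s) M
  have hP : Coh.IsCoh ((AmpleVan.tw N).obj M) := AmpleVan.isCoh_tensor hM (AmpleVan.isCoh_invertible hN)
  have hK : Coh.IsCoh (kernel φ) := QCoh.isCoh_kernel hM hP φ
  have hC : Coh.IsCoh (cokernel φ) := QCoh.isCoh_cokernel hM.1 hP φ
  refine ⟨Preadditive.mono_of_isZero_kernel φ (hp _ (kernel.ι φ) inferInstance hK fun x hx => ?_), fun x hx => ?_⟩
  · exact isClosed_singleton_of_avoid hdim (QCoh.isClosed_support_of_isFT hK.1 hK.2)
      (fun η hη => notMem_support_kernel_mulSec s (hs hη)) hx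
  · exact isClosed_singleton_of_avoid hdim (QCoh.isClosed_support_of_isFT hC.1 hC.2)
      (fun η hη => notMem_support_cokernel_mulSec s (hs hη)) hx

end Groth.Agent.DecShLib
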