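import Groth.Agent.DecShLib.Mu
import Groth.Agent.HilbPoly.Sat
import Groth.Agent.GrpSchLib.SmoothReduced
import Groth.Agent.ASB24.Decomp

/-!
# The slope bound for semistable parabolic tensor fields
-/

set_option autoImplicit false
set_option linter.style.haveILetI false
set_option linter.unusedSectionVars false
set_option backward.isDefEq.respectTransparency false
set_option backward.isDefEq.respectTransparency.types false
set_option maxHeartbeats 1000000

universe u

open CategoryTheory CategoryTheory.Limits AlgebraicGeometry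

noncomputable section

namespace Groth.Agent.DecShLib

open Groth.Agent

variable {X : Scheme.{u}}

theorem isTorsionFree_of_finLocFree [IsLocallyNoetherian X] {E : X.Modules} (hE : FlatMod.IsFinLocFree E) : TorSh.IsTorsionFree E :=
  fun x => by
    haveI := QCoh.free_stalk_of_isFinLocFree hE x
    refine ⟨fun r hr a b hab => ?_⟩
    let B := Module.Free.chooseBasis (X.presheaf.stalk x) (E.presheaf.stalk x)
    refine B.repr.injective (Finsupp.ext fun i => hr.1 ?_)
    have h := congrArg (fun z => B.repr z i) hab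
    simpa using h

variable (k : Type u) [Field k] [X.Over (Spec (CommRingCat.of k))] [IsProper (X ↘ Spec (CommRingCat.of k))]

theorem mult_iso {L F G : X.Modules} (hL : PicF.IsInvertible L) (e : F ≅ G) :
    DecSh.mult k X L F = DecSh.mult k X L G :=
  haveI : IsNoetherian X := CurveCohLib.isNoetherian_of_proper (k := k)
  (HilbPoly.additive_lead (HilbPoly.additive_euler k) hL 1).iso _ _ ⟨e⟩

/-- `α(E) χ(F) − α(F) χ(E) ≤ δ a (α(E) − α(F)) + α(E) r ν` for subsheaves of semistable parabolic tensor fields. -/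
theorem par_sub_le [Smooth (X ↘ Spec (CommRingCat.of k))] (hdim : topologicalKrullDim X = 1)
    (hpure : ∀ x : X, ¬ IsOpen ({x} : Set X)) {L : X.Modules} (hL : CohB1.IsAmple L)
    {E : X.Modules} {r : ℕ} (hE : FlatMod.IsFinLocFreeOfRank r E) {ν : ℕ} {I : Fin ν → X.IdealSheafData}
    {K : ∀ i, Submodule k (ParSh.fibD X (I i) E)}
    (hK : ∀ i, Module.finrank k (ParSh.fibD X (I i) E ⧸ K i) = r)
    {κ : Fin ν → ℚ} (hκ : ∀ i, 0 < κ i ∧ κ i < 1) {D : X.Modules} {a b : ℕ} (T : DecSh.TF E a b D)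
    {δ : ℚ} (hδ : 0 < δ) (hT : T.IsParSemistable k I K κ L δ)
    (F : X.Modules) (ι : F ⟶ E) [Mono ι] (hF : Coh.IsCoh F) (hF0 : ¬ IsZero F) (hι : ¬ IsIso ι) :
    1 ≤ DecSh.mult k X L F ∧ DecSh.mult k X L F ≤ DecSh.mult k X L E ∧
      (DecSh.mult k X L E : ℚ) * (Curv2.euler k X F : ℚ) - (DecSh.mult k X L F : ℚ) * (Curv2.euler k X E : ℚ)
        ≤ δ * (a : ℚ) * (DecSh.mult k X L E : ℚ) + (DecSh.mult k X L E : ℚ) * ((r : ℚ) * (ν : ℚ)) := by
  classical
  haveI : IsNoetherian X := CurveCohLib.isNoetherian_of_proper (k := k)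
  haveI := GrpSchLib.isReduced_of_smooth_field (X ↘ Spec (CommRingCat.of k))
  have hEf : FlatMod.IsFinLocFree E := fun y => let ⟨U, hy, e⟩ := hE y; ⟨U, r, hy, e⟩
  have hEc : Coh.IsCoh E := QCoh.isCoh_iff_isFP.2 (QCoh.isFP_of_isFinLocFree hEf)
  have htf := isTorsionFree_of_finLocFree hEf
  let P := Subobject.mk ι
  let eS : (P : X.Modules) ≅ F := Subobject.underlyingIso ι
  have hP : Coh.IsCoh (P : X.Modules) := HilbPoly.isCoh_of_iso eS.symm hF
  have hP0 : ¬ IsZero (P : X.Modules) := fun h => hF0 (h.of_iso eS.symm)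
  have hne : P ≠ ⊤ := fun h => hι (by
    haveI := (Subobject.isIso_arrow_iff_eq_top _).2 h
    rw [← Subobject.underlyingIso_arrow ι]; infer_instance)
  have h1 := one_le_mult (k := k) hdim hpure hL htf ι hF hF0
  have h2 := mult_le (k := k) hdim hL ι hF hEc
  refine ⟨h1, h2, ?_⟩
  have hr : 0 < r := Nat.pos_of_ne_zero fun h0 => hF0 (by
    have hz := ASB24.isZero_of_rank_zero (h0 ▸ hE)
    rw [IsZero.iff_id_eq_zero, ← cancel_mono ι]
    exact hz.eq_of_tgt _ _)
  have hq : ∀ (G : X.Modules) (j : G ⟶ E),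
      0 ≤ ∑ i, κ i * (Module.finrank k ((LinearMap.range (ParSh.fibDMap k X (I i) j)).map (K i).mkQ) : ℚ) ∧
        ∑ i, κ i * (Module.finrank k ((LinearMap.range (ParSh.fibDMap k X (I i) j)).map (K i).mkQ) : ℚ) ≤
          (r : ℚ) * (ν : ℚ) := fun G j => by
    refine ⟨Finset.sum_nonneg fun i _ => mul_nonneg (hκ i).1.le (Nat.cast_nonneg _), ?_⟩
    refine le_trans (Finset.sum_le_sum (g := fun _ => (r : ℚ)) fun i _ => ?_) (by simp; ring_nf; rfl)
    haveI : Module.Finite k (ParSh.fibD X (I i) E ⧸ K i) := Module.finite_of_finrank_pos (by rw [hK i]; exact hr)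
    have hle : (Module.finrank k ((LinearMap.range (ParSh.fibDMap k X (I i) j)).map (K i).mkQ) : ℚ) ≤ r := by
      exact_mod_cast (Submodule.finrank_le _).trans_eq (hK i)
    exact (mul_le_of_le_one_left (Nat.cast_nonneg _) (hκ i).2.le).trans hle
  obtain ⟨-, hFν⟩ := hq _ P.arrow
  obtain ⟨hE0, -⟩ := hq _ (𝟙 E)
  let 𝓕 := DecSh.WFilt.single P hne hP0
  have hall := hT 𝓕 fun _ => hP
  have he : DecSh.mult k X L (P : X.Modules) = DecSh.mult k X L F := mult_iso k hL.1 eS
  have he' : Curv2.euler k X (P : X.Modules) = Curv2.euler k X F := (HilbPoly.additive_euler k).iso _ _ ⟨eS⟩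
  obtain ⟨J, -, hJ⟩ := 𝓕.exists_gam_eq_mu (DecSh.mult k X L E) (fun Q => DecSh.mult k X L (Q : X.Modules)) T.nv
  have hν : 𝓕.nu (DecSh.mult k X L E) (fun Q => DecSh.mult k X L (Q : X.Modules)) J ⟨0, Nat.one_pos⟩ ≤ a :=
    (Finset.card_filter_le _ _).trans (by simp)
  have hν' : (𝓕.nu (DecSh.mult k X L E) (fun Q => DecSh.mult k X L (Q : X.Modules)) J ⟨0, Nat.one_pos⟩ : ℚ) ≤ a := by
    exact_mod_cast hν
  have hαE : (1 : ℚ) ≤ DecSh.mult k X L E := by exact_mod_cast h1.trans h2
  have hαF : (0 : ℚ) ≤ DecSh.mult k X L F := by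
    have : (1 : ℚ) ≤ DecSh.mult k X L F := by exact_mod_cast h1
    linarith
  have key : (a : ℚ) * (DecSh.mult k X L F : ℚ) - a * DecSh.mult k X L E ≤
      𝓕.mu (DecSh.mult k X L E) (fun Q => DecSh.mult k X L (Q : X.Modules)) T.nv := by
    rw [← hJ]
    simp only [DecSh.WFilt.gam, 𝓕, DecSh.WFilt.single, Fin.sum_univ_one, one_mul, he] at hν' ⊢
    exact sub_le_sub_left (mul_le_mul_of_nonneg_right hν' (by linarith)) _
  simp only [DecSh.WFilt.msum, DecSh.parChi, 𝓕, DecSh.WFilt.single, Fin.sum_univ_one, one_mul, he, he'] at hall key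
  have h9 := mul_le_mul_of_nonneg_left key hδ.le
  have h10 := mul_le_mul_of_nonneg_left hFν (show (0 : ℚ) ≤ DecSh.mult k X L E by linarith)
  have h11 := mul_nonneg hαF hE0
  have h12 : 0 ≤ δ * (a : ℚ) * (DecSh.mult k X L F : ℚ) := by positivity
  linarith

end Groth.Agent.DecShLib
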