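import Groth.Agent.DecShLib.Bounded
import Groth.Agent.DecShLib.Par

/-!
# Sectional invariants of subsheaves and quotients on a reduced curve
-/

set_option autoImplicit false
set_option linter.style.haveILetI false
set_option linter.unusedSectionVars false
set_option backward.isDefEq.respectTransparency false
set_option backward.isDefEq.respectTransparency.types false
set_option maxHeartbeats 1600000

universe u

open CategoryTheory CategoryTheory.Limits AlgebraicGeometry TopologicalSpace Opposite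
open Groth.Agent.PnCoh.Finite (mapLin deltaLin)

noncomputable section

namespace Groth.Agent.DecShLib

open Groth.Agent Groth.Agent.H23 Groth.Agent.H23.PicMul
attribute [local instance] PicMul.clMonoid

variable {X : Scheme.{u}} (k : Type u) [Field k] [X.Over (Spec (CommRingCat.of k))]
  [IsProper (X ↘ Spec (CommRingCat.of k))] {L : X.Modules}

include k in
/-- On a curve `h⁰ = χ + h¹`. -/
theorem h0_eq (hdim : topologicalKrullDim X = 1) {M : X.Modules} (hM : Coh.IsCoh M) :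
    (Module.finrank k (Coh.HH X M 0) : ℤ) = Curv2.euler k X M + Module.finrank k (Coh.HH X M 1) := by
  haveI := CurveCohLib.isNoetherian_of_proper (k := k) (X := X)
  haveI : X.IsSeparated := AmpleVan.isSeparated_of_proper (A := k)
  have hd1 : topologicalKrullDim X ≤ ((1 : ℕ) : WithBot ℕ∞) := by rw [hdim]; rfl
  rw [Euler.euler_eq_sum k M 2 fun i hi => Snapper.subsingleton_HH_of_dim_le hd1 hM.1 hi,
    Finset.sum_range_succ, Finset.sum_range_one]
  simp

include k in
/-- Twists are additive. -/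
theorem twist_twist (F : X.Modules) (s t : ℕ) :
    Nonempty (ShStab.twist X L (ShStab.twist X L F s) t ≅ ShStab.twist X L F (s + t)) := cl_eq_iff.1 (by
  show PicF.cl (CohB1.tensorMod (CohB1.tensorMod F _) _) = PicF.cl (CohB1.tensorMod F _)
  rw [cl_tensor, cl_tensor, cl_tensor, cl_tensorPow, cl_tensorPow, cl_tensorPow, pow_add, mul_assoc])

include k in
theorem isCoh_twist (hL : PicF.IsInvertible L) {F : X.Modules} (hF : Coh.IsCoh F) (t : ℕ) :
    Coh.IsCoh (ShStab.twist X L F t) :=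
  haveI := CurveCohLib.isNoetherian_of_proper (k := k) (X := X)
  isCoh_tw (InvX.isInvertible_tensorPow hL t) hF

include k in
/-- Every coherent module is a twist. -/
theorem exists_untwist (hdim : topologicalKrullDim X = 1) (hL : CohB1.IsAmple L) {F : X.Modules}
    (hF : Coh.IsCoh F) (t : ℕ) :
    ∃ F₀ : X.Modules, Coh.IsCoh F₀ ∧ Nonempty (ShStab.twist X L F₀ t ≅ F) ∧
      DecSh.mult k X L F₀ = DecSh.mult k X L F ∧
      Curv2.euler k X F₀ + (t : ℤ) * DecSh.mult k X L F = Curv2.euler k X F := by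
  haveI := CurveCohLib.isNoetherian_of_proper (k := k) (X := X)
  obtain ⟨A, hA, ⟨eA⟩⟩ := H23.PicInv.exists_inverse (InvX.isInvertible_tensorPow hL.1 t)
  have hF₀ : Coh.IsCoh (CohB1.tensorMod F A) := AmpleVan.isCoh_tensor hF (AmpleVan.isCoh_invertible hA)
  have hinv : PicF.cl L ^ t * PicF.cl A = 1 := by
    rw [← cl_tensorPow]
    exact (cl_tensor _ _).symm.trans (cl_eq_iff.2 ⟨eA⟩)
  obtain ⟨φ⟩ : Nonempty (ShStab.twist X L (CohB1.tensorMod F A) t ≅ F) := cl_eq_iff.1 (by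
    show PicF.cl (CohB1.tensorMod (CohB1.tensorMod F A) _) = _
    rw [cl_tensor, cl_tensor, cl_tensorPow, mul_assoc, mul_comm (PicF.cl A), hinv, mul_one])
  obtain ⟨he, hα⟩ := euler_twist_linear (k := k) hdim hL hF₀ t
  have hα' : DecSh.mult k X L F = DecSh.mult k X L (CohB1.tensorMod F A) := by
    rw [← hα]; exact (mult_iso k hL.1 φ).symm
  refine ⟨_, hF₀, ⟨φ⟩, hα'.symm, ?_⟩
  rw [hα', ← he]
  exact (HilbPoly.additive_euler k).iso _ _ ⟨φ⟩

include k in
theorem surjective_g_one (hdim : topologicalKrullDim X = 1) {S : ShortComplex X.Modules} (hS : S.ShortExact)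
    (h₁ : Coh.IsCoh S.X₁) (h₂ : Subsingleton (Coh.HH X S.X₂ 1)) : Subsingleton (Coh.HH X S.X₃ 1) := by
  haveI := CurveCohLib.isNoetherian_of_proper (k := k) (X := X)
  haveI : X.IsSeparated := AmpleVan.isSeparated_of_proper (A := k)
  have hd1 : topologicalKrullDim X ≤ ((1 : ℕ) : WithBot ℕ∞) := by rw [hdim]; rfl
  haveI : Subsingleton (Coh.HH X S.X₁ 2) := Snapper.subsingleton_HH_of_dim_le hd1 h₁.1 (Nat.lt_succ_self 1)
  refine subsingleton_of_forall_eq 0 fun y => ?_
  obtain ⟨z, rfl⟩ : y ∈ LinearMap.range (mapLin k S.g 1) :=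
    (CurveCohLib.ker_deltaLin k hS 1).le (LinearMap.mem_ker.2 (Subsingleton.elim _ _))
  rw [Subsingleton.elim z 0, map_zero]

include k in
theorem injective_g_one {S : ShortComplex X.Modules} (hS : S.ShortExact)
    (h₁ : Subsingleton (Coh.HH X S.X₁ 1)) (h₃ : Subsingleton (Coh.HH X S.X₃ 1)) :
    Subsingleton (Coh.HH X S.X₂ 1) := by
  refine subsingleton_of_forall_eq 0 fun y => ?_
  obtain ⟨z, rfl⟩ : y ∈ LinearMap.range (mapLin k S.f 1) :=
    (CurveCohLib.ker_mapLin_g k hS 1).le (LinearMap.mem_ker.2 (Subsingleton.elim _ _))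
  rw [Subsingleton.elim z 0, map_zero]

include k in
/-- Twisting by a power `p j` drops `h¹` by at least `j` until it vanishes. -/
theorem exists_drop [Infinite k] (hdim : topologicalKrullDim X = 1) (hL : CohB1.IsAmple L) :
    ∃ p : ℕ, 0 < p ∧ ∀ F : X.Modules, Coh.IsCoh F → NoPt F → ∀ j : ℕ,
      Module.finrank k (Coh.HH X (ShStab.twist X L F (p * j)) 1) ≤ Module.finrank k (Coh.HH X F 1) - j := by
  haveI := CurveCohLib.isNoetherian_of_proper (k := k) (X := X)
  haveI : X.IsSeparated := AmpleVan.isSeparated_of_proper (A := k)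
  obtain ⟨p, hp, κ, _, σ, -, -, hcov⟩ := AmpleX.exists_cover_genLocus hL
  let N := CohB1.tensorPow L p
  have hN : PicF.IsInvertible N := InvX.isInvertible_tensorPow hL.1 p
  refine ⟨p, hp, fun F hF hnp j => ?_⟩
  obtain ⟨s, hs⟩ := exists_avoid_section k hN σ hcov (genericPoints.finite (α := X)
    NoetherianSpace.finite_irreducibleComponents)
  obtain ⟨hmono, hcl⟩ := mono_mulSec hdim hN hF hnp s hs
  haveI := hmono
  let S := ShortComplex.mk (AmpleVan.mulSec (InvX.one s) F) (cokernel.π _) (cokernel.condition _)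
  have hS : S.ShortExact :=
    .mk' (ShortComplex.exact_of_g_is_cokernel _ (cokernelIsCokernel _)) hmono inferInstance
  have hser : ∀ M : X.Modules, Coh.IsCoh M → ∃ d, Subsingleton (Coh.HH X ((AmpleVan.itw N d).obj M) 1) :=
    fun M hM => by
      obtain ⟨d₀, hd₀⟩ := AmpleVan.exists_vanishing (A := k) hL hM
      obtain ⟨θ⟩ : Nonempty ((AmpleVan.itw N d₀).obj M ≅ CohB1.tensorMod M (CohB1.tensorPow L (p * d₀))) :=
        cl_eq_iff.1 (by rw [AmpleVan.cl_itw, cl_tensor, cl_tensorPow, cl_tensorPow, ← pow_mul])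
      exact ⟨d₀, QCoh.subsingleton_HH_of_iso θ.symm 1 (hd₀ (p * d₀) (Nat.le_mul_of_pos_left _ hp) 0)⟩
  have h : Module.finrank k (Coh.HH X ((AmpleVan.itw N j).obj F) 1) ≤ Module.finrank k (Coh.HH X F 1) - j :=
    h1_drop k hN hser σ hcov j S hS hF (isCoh_tw hN hF)
      (QCoh.isCoh_cokernel hF.1 (isCoh_tw hN hF) _) hcl ⟨Iso.refl _⟩
  obtain ⟨θ⟩ : Nonempty ((AmpleVan.itw N j).obj F ≅ ShStab.twist X L F (p * j)) := cl_eq_iff.1 (by
    show _ = PicF.cl (CohB1.tensorMod F _)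
    rw [AmpleVan.cl_itw, cl_tensor, cl_tensorPow, cl_tensorPow, ← pow_mul])
  rw [← (CurveCohLib.hhEquiv (k := k) θ 1).finrank_eq]
  exact h

include k in
/-- The image of a section of a module twisted down. -/
theorem exists_image_section [AlgebraicGeometry.IsReduced X] (hL : PicF.IsInvertible L) {F₀ G : X.Modules}
    (hF₀ : Coh.IsCoh F₀) {t : ℕ} (φ : ShStab.twist X L F₀ t ≅ G)
    (hne : Module.finrank k (Coh.HH X F₀ 0) ≠ 0) :
    ∃ (S : ShortComplex X.Modules) (ι : ShStab.twist X L S.X₃ t ⟶ G), S.ShortExact ∧ Coh.IsCoh S.X₁ ∧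
      S.X₂ = Coh.structureModule X ∧ Coh.IsCoh S.X₃ ∧ Mono ι ∧ ¬ IsZero S.X₃ := by
  haveI := CurveCohLib.isNoetherian_of_proper (k := k) (X := X)
  have hOc : Coh.IsCoh (Coh.structureModule X) := CurveDeg.isCoh_of_isInvertible InvX.isInvertible_structureModule
  haveI := AmpleVan.isEquivalence_tw (InvX.isInvertible_tensorPow hL t)
  obtain ⟨s, hs⟩ := CurveRR.exists_hom_ne_zero k hne
  obtain ⟨K, I, a, q, b, w, hfac, -, hb, hq, hS, hKc, hIc⟩ := HilbPoly.exists_factor (k := k) hOc hF₀ s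
  haveI := hb
  exact ⟨ShortComplex.mk a q w, (AmpleVan.tw (CohB1.tensorPow L t)).map b ≫ φ.hom, hS, hKc, rfl, hIc,
    mono_comp _ _, fun h => hs (by rw [← hfac, h.eq_of_tgt q 0, zero_comp])⟩

include k in
/-- A subsheaf of a torsion free sheaf with bounded subsheaves has no nonvanishing `h¹` after large twists unless it has few
sections. -/
theorem exists_dichotomy [AlgebraicGeometry.IsReduced X] [Infinite k] (hdim : topologicalKrullDim X = 1)
    (hpure : ∀ x : X, ¬ IsOpen ({x} : Set X)) (hL : CohB1.IsAmple L) (α e : ℤ) (C K : ℚ) :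
    ∃ m₀ : ℕ, ∀ E : X.Modules, Coh.IsCoh E → TorSh.IsTorsionFree E → DecSh.mult k X L E = α →
      Curv2.euler k X E = e →
      (∀ (G : X.Modules) (ι : G ⟶ E), Mono ι → Coh.IsCoh G → ¬ IsZero G → (Curv2.euler k X G : ℚ) ≤ C) →
      ∀ m : ℕ, m₀ ≤ m → ∀ (G : X.Modules) (g : G ⟶ E), Mono g → Coh.IsCoh G → ¬ IsZero G →
        Subsingleton (Coh.HH X (ShStab.twist X L G m) 1) ∨
          (α : ℚ) * (Module.finrank k (Coh.HH X (ShStab.twist X L G m) 0) : ℚ) -
            (DecSh.mult k X L G : ℚ) * (Curv2.euler k X (ShStab.twist X L E m) : ℚ) ≤ -K := by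
  haveI := CurveCohLib.isNoetherian_of_proper (k := k) (X := X)
  haveI : X.IsSeparated := AmpleVan.isSeparated_of_proper (A := k)
  obtain ⟨p, hp, hdrop⟩ := exists_drop k hdim hL
  have hOc : Coh.IsCoh (Coh.structureModule X) := CurveDeg.isCoh_of_isInvertible InvX.isInvertible_structureModule
  obtain ⟨c, hc⟩ : ∃ c : ℤ, c = Curv2.euler k X (Coh.structureModule X) -
    (Module.finrank k (Coh.HH X (Coh.structureModule X) 0) : ℤ) := ⟨_, rfl⟩
  obtain ⟨n₀, hn₀⟩ : ∃ n₀ : ℕ, C - (c : ℚ) < (n₀ : ℚ) := exists_nat_gt _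
  obtain ⟨B, hB⟩ : ∃ B : ℕ, ((n₀ + p : ℕ) : ℚ) * |(α : ℚ)| + |(e : ℚ)| + |K| < (B : ℚ) := exists_nat_gt _
  refine ⟨p * (B + 1), fun E hE htf hα he hsub m hm G g hg hG hG0 => ?_⟩
  haveI := hg
  rw [or_iff_not_imp_left]
  intro hne
  let j := (m + n₀) / p + 1
  have hj1 : m + n₀ < p * j := by
    have := Nat.lt_div_mul_add (a := m + n₀) hp
    show _ < p * ((m + n₀) / p + 1)
    rw [mul_add, mul_one, mul_comm]
    exact this
  have hj2 : p * j ≤ m + n₀ + p := by
    show p * ((m + n₀) / p + 1) ≤ _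
    rw [mul_add, mul_one]
    exact Nat.add_le_add_right (Nat.mul_div_le _ _) _
  have hjB : B ≤ j := by
    have : p * B ≤ p * j := by
      have : p * B ≤ p * (B + 1) := Nat.mul_le_mul_left _ (Nat.le_succ _)
      omega
    exact Nat.le_of_mul_le_mul_left this hp
  obtain ⟨t, ht, ht1, ht2⟩ : ∃ t, p * j = t + m ∧ n₀ ≤ t ∧ t ≤ n₀ + p := ⟨p * j - m, by omega, by omega, by omega⟩
  obtain ⟨F₀, hF₀, ⟨φ⟩, hα₀, he₀⟩ := exists_untwist k hdim hL hG t
  have hL' := InvX.isInvertible_tensorPow hL.1 t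
  haveI := AmpleVan.isEquivalence_tw hL'
  have hαG : 1 ≤ DecSh.mult k X L G := one_le_mult hdim hpure hL htf g hG hG0
  have hαG' : DecSh.mult k X L G ≤ α := hα ▸ mult_le hdim hL g hG hE
  have hh0 : Module.finrank k (Coh.HH X F₀ 0) = 0 := by
    by_contra hne'
    obtain ⟨S, ι, hS, hS1, hS2, hS3, hι, hI0⟩ := exists_image_section k hL.1 hF₀ φ hne'
    haveI := hι
    have hIc := isCoh_twist k hL.1 hS3 t
    have hI0' : ¬ IsZero (ShStab.twist X L S.X₃ t) := fun h => hI0 (eq_zero_of_isZero_tw hL' h)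
    have hb1 := hsub _ (ι ≫ g) (mono_comp _ _) hIc hI0'
    obtain ⟨heI, hαI⟩ := euler_twist_linear (k := k) hdim hL hS3 t
    have hαI1 : 1 ≤ DecSh.mult k X L S.X₃ := hαI ▸ one_le_mult hdim hpure hL htf (ι ≫ g) hIc hI0'
    have hcI : c ≤ Curv2.euler k X S.X₃ := by
      have := le_euler_of_quot k hdim hS hS1 (hS2 ▸ hOc) hS3
      rw [hS2] at this
      rw [hc]; exact this
    have h1 : (c : ℚ) + t ≤ Curv2.euler k X (ShStab.twist X L S.X₃ t) := by
      have : c + (t : ℤ) ≤ Curv2.euler k X (ShStab.twist X L S.X₃ t) := by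
        rw [heI]
        have : (t : ℤ) ≤ (t : ℤ) * DecSh.mult k X L S.X₃ := le_mul_of_one_le_right (Int.natCast_nonneg t) hαI1
        omega
      exact_mod_cast this
    have h3 : (n₀ : ℚ) ≤ t := by exact_mod_cast ht1
    linarith
  have hnp : NoPt F₀ := fun K' ι hι hK hKcl => by
    haveI := hι
    refine eq_zero_of_isZero_tw hL' (isZero_of_closedSupport hpure htf
      ((AmpleVan.tw (CohB1.tensorPow L t)).map ι ≫ φ.hom ≫ g) (isCoh_twist k hL.1 hK t)
      fun x hx => hKcl x (HilbPoly.support_tensor_subset _ _ hx))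
  have h1F := h0_eq k hdim hF₀
  rw [hh0] at h1F
  have hd := hdrop F₀ hF₀ hnp j
  obtain ⟨θ⟩ : Nonempty (ShStab.twist X L F₀ (p * j) ≅ ShStab.twist X L G m) := by
    obtain ⟨θ'⟩ := twist_twist k (L := L) F₀ t m
    exact ⟨eqToIso (by rw [ht]) ≪≫ θ'.symm ≪≫ (AmpleVan.tw (CohB1.tensorPow L m)).mapIso φ⟩
  rw [(CurveCohLib.hhEquiv (k := k) θ 1).finrank_eq] at hd
  have hne' : Module.finrank k (Coh.HH X (ShStab.twist X L G m) 1) ≠ 0 := fun h => hne (by
    haveI := S0002.result k X _ (isCoh_twist k hL.1 hG m) 1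
    exact Module.finrank_zero_iff.1 h)
  have hd' : (Module.finrank k (Coh.HH X (ShStab.twist X L G m) 1) : ℤ) + (j : ℤ) ≤
      Module.finrank k (Coh.HH X F₀ 1) := by omega
  have hGm := h0_eq k hdim (isCoh_twist k hL.1 hG m)
  rw [(euler_twist_linear (k := k) hdim hL hG m).1] at hGm
  have key : (Module.finrank k (Coh.HH X (ShStab.twist X L G m) 0) : ℤ) ≤
      DecSh.mult k X L G * ((t : ℤ) + m) - j := by
    simp only [Nat.cast_zero] at h1F
    linarith
  have key' : (Module.finrank k (Coh.HH X (ShStab.twist X L G m) 0) : ℚ) ≤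
      (DecSh.mult k X L G : ℚ) * ((t : ℚ) + m) - j := by exact_mod_cast key
  have hem : (Curv2.euler k X (ShStab.twist X L E m) : ℚ) = (e : ℚ) + (m : ℚ) * α := by
    rw [(euler_twist_linear (k := k) hdim hL hE m).1, he, hα]; push_cast; ring
  rw [hem]
  have a1 : (1 : ℚ) ≤ DecSh.mult k X L G := by exact_mod_cast hαG
  have a2 : (DecSh.mult k X L G : ℚ) ≤ α := by exact_mod_cast hαG'
  have a3 : (t : ℚ) ≤ ((n₀ + p : ℕ) : ℚ) := by exact_mod_cast ht2
  have a4 : ((B : ℕ) : ℚ) ≤ (j : ℚ) := by exact_mod_cast hjB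
  have a5 : |(α : ℚ)| = α := abs_of_nonneg (by linarith)
  rw [a5] at hB
  have b1 := mul_le_mul_of_nonneg_left key' (show (0 : ℚ) ≤ α by linarith)
  have b2 : (t : ℚ) * α - e ≤ ((n₀ + p : ℕ) : ℚ) * α + |(e : ℚ)| := by
    have := mul_le_mul_of_nonneg_right a3 (show (0 : ℚ) ≤ α by linarith)
    linarith [neg_abs_le (e : ℚ)]
  have b3 : (DecSh.mult k X L G : ℚ) * ((t : ℚ) * α - e) ≤
      (α : ℚ) * (((n₀ + p : ℕ) : ℚ) * α + |(e : ℚ)|) :=
    (mul_le_mul_of_nonneg_left b2 (by linarith)).trans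
      (mul_le_mul_of_nonneg_right a2 (add_nonneg (mul_nonneg (Nat.cast_nonneg _) (by linarith)) (abs_nonneg _)))
  have b4 := mul_le_mul_of_nonneg_left (le_of_lt (hB.trans_le a4)) (show (0 : ℚ) ≤ α by linarith)
  have b5 : K ≤ (α : ℚ) * |K| := (le_abs_self K).trans (le_mul_of_one_le_left (abs_nonneg _) (by linarith))
  linarith

end Groth.Agent.DecShLib
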