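import Groth.Agent.DecShLib.SectQuot

/-!
# Sectional characterisation of semistable tensor fields
-/

set_option autoImplicit false
set_option linter.style.haveILetI false
set_option linter.unusedSectionVars false
set_option backward.isDefEq.respectTransparency false
set_option backward.isDefEq.respectTransparency.types false
set_option maxHeartbeats 1600000

universe v u

open CategoryTheory CategoryTheory.Limits AlgebraicGeometry TopologicalSpace Opposite

noncomputable section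

namespace Groth.Agent.DecShLib

open Groth.Agent

section Generic

variable {C : Type u} [Category.{v} C] {E : C}

/-- Replacing linear terms by terms which are equal to them or very negative keeps the inequality. -/
theorem deltaSS_sect {ok : Subobject E → Prop} {αE : ℤ} {α : Subobject E → ℤ} {dE : ℚ} {d : Subobject E → ℚ}
    {a : ℕ} {N : DecSh.NV E a} {δ : ℚ} (hss : DecSh.IsDeltaSS ok αE α dE d N δ) (hδ : 0 ≤ δ)
    (𝓕 : DecSh.WFilt E) (hok : ∀ i, ok (𝓕.piece i)) (h1 : ∀ i, 1 ≤ α (𝓕.piece i))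
    (h2 : ∀ i, α (𝓕.piece i) ≤ αE) (x : Fin 𝓕.t → ℚ) (K : ℚ) (hK : δ * ((a : ℚ) * ((αE : ℚ) - 1)) ≤ K)
    (hx : ∀ i, x i = (αE : ℚ) * d (𝓕.piece i) - (α (𝓕.piece i) : ℚ) * dE ∨ x i ≤ -K) :
    (∑ i, 𝓕.wt i * x i) + δ * 𝓕.mu αE α N ≤ 0 ∧
      (δ * ((a : ℚ) * ((αE : ℚ) - 1)) < K → (∑ i, 𝓕.wt i * x i) + δ * 𝓕.mu αE α N = 0 →
        ∀ i, x i = (αE : ℚ) * d (𝓕.piece i) - (α (𝓕.piece i) : ℚ) * dE) := by
  classical
  let P : Fin 𝓕.t → Prop := fun i => x i = (αE : ℚ) * d (𝓕.piece i) - (α (𝓕.piece i) : ℚ) * dE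
  let S : Finset (Fin 𝓕.t) := Finset.univ.filter P
  let WB : ℚ := ∑ i ∈ Sᶜ, 𝓕.wt i
  have hbad : ∑ i ∈ Sᶜ, 𝓕.wt i * x i ≤ -(K * WB) := by
    rw [Finset.mul_sum, ← Finset.sum_neg_distrib]
    refine Finset.sum_le_sum fun i hi => ?_
    have hi' : ¬ P i := by simpa [S] using hi
    refine (mul_le_mul_of_nonneg_left ((hx i).resolve_left hi') (𝓕.wt_pos i).le).trans (le_of_eq ?_)
    ring
  have hgood : ∑ i ∈ S, 𝓕.wt i * x i =
      ∑ i ∈ S, 𝓕.wt i * ((αE : ℚ) * d (𝓕.piece i) - (α (𝓕.piece i) : ℚ) * dE) :=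
    Finset.sum_congr rfl fun i hi => by rw [(Finset.mem_filter.1 hi).2]
  have key : (∑ i, 𝓕.wt i * x i) + δ * 𝓕.mu αE α N ≤ WB * (δ * ((a : ℚ) * ((αE : ℚ) - 1)) - K) := by
    rcases S.eq_empty_or_nonempty with hS | hS
    · have hmu := le_of_abs_le (abs_mu_le 𝓕 αE α h1 h2 N)
      have hW : ∑ i, 𝓕.wt i = WB := by simp [WB, hS]
      have hX : ∑ i, 𝓕.wt i * x i = ∑ i ∈ Sᶜ, 𝓕.wt i * x i := by simp [hS]
      rw [hW] at hmu
      rw [hX]
      have := mul_le_mul_of_nonneg_left hmu hδ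
      linarith
    · let e : Fin S.card ↪o Fin 𝓕.t := S.orderEmbOfFin rfl
      let 𝓕₁ : DecSh.WFilt E :=
        { t := S.card
          t_pos := hS.card_pos
          piece := fun j => 𝓕.piece (e j)
          wt := fun j => 𝓕.wt (e j)
          piece_strictMono := 𝓕.piece_strictMono.comp e.strictMono
          piece_ne_top := fun j => 𝓕.piece_ne_top _
          piece_nonzero := fun j => 𝓕.piece_nonzero _
          wt_pos := fun j => 𝓕.wt_pos _ }
      have hsum : ∀ f : Fin 𝓕.t → ℚ, ∑ j, f (e j) = ∑ i ∈ S, f i := fun f => by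
        conv_rhs => rw [← Finset.map_orderEmbOfFin_univ S rfl, Finset.sum_map]
        rfl
      have hss₁ := hss 𝓕₁ fun j => hok _
      have hms : 𝓕₁.msum αE α dE d =
          ∑ i ∈ S, 𝓕.wt i * ((αE : ℚ) * d (𝓕.piece i) - (α (𝓕.piece i) : ℚ) * dE) :=
        hsum fun i => 𝓕.wt i * ((αE : ℚ) * d (𝓕.piece i) - (α (𝓕.piece i) : ℚ) * dE)
      have hmu := mu_le_sub 𝓕 αE α h1 h2 N 𝓕₁ e (fun _ => rfl) fun _ => rfl
      have hw : ∑ i, 𝓕.wt i - ∑ j, 𝓕₁.wt j = WB := by
        show _ - ∑ j, 𝓕.wt (e j) = _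
        rw [hsum, ← Finset.sum_add_sum_compl S 𝓕.wt, add_sub_cancel_left]
      rw [hw] at hmu
      rw [← Finset.sum_add_sum_compl S (fun i => 𝓕.wt i * x i), hgood, ← hms]
      have := mul_le_mul_of_nonneg_left hmu hδ
      linarith
  have hWB : 0 ≤ WB := Finset.sum_nonneg fun i _ => (𝓕.wt_pos i).le
  refine ⟨key.trans (mul_nonpos_of_nonneg_of_nonpos hWB (by linarith)), fun hlt h0 i => ?_⟩
  by_contra hi
  have hpos : 0 < WB := Finset.sum_pos (fun j _ => 𝓕.wt_pos j) ⟨i, by simpa [S, P] using hi⟩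
  have := mul_neg_of_pos_of_neg hpos (sub_neg.2 hlt)
  linarith

end Generic

variable {X : Scheme.{u}} (k : Type u) [Field k] [X.Over (Spec (CommRingCat.of k))]
  [IsProper (X ↘ Spec (CommRingCat.of k))] {L : X.Modules}

include k in
theorem euler_le_h0 (hdim : topologicalKrullDim X = 1) {M : X.Modules} (hM : Coh.IsCoh M) :
    (Curv2.euler k X M : ℚ) ≤ (Module.finrank k (Coh.HH X M 0) : ℚ) := by
  have h : Curv2.euler k X M ≤ (Module.finrank k (Coh.HH X M 0) : ℤ) := by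
    have := h0_eq k hdim hM; omega
  exact_mod_cast h

include k in
theorem euler_eq_h0 (hdim : topologicalKrullDim X = 1) {M : X.Modules} (hM : Coh.IsCoh M)
    (h : Subsingleton (Coh.HH X M 1)) :
    (Module.finrank k (Coh.HH X M 0) : ℤ) = Curv2.euler k X M := by
  haveI := h
  rw [h0_eq k hdim hM, Module.finrank_zero_of_subsingleton]
  simp

include k in
theorem euler_twist_cast (hdim : topologicalKrullDim X = 1) (hL : CohB1.IsAmple L) {M : X.Modules}
    (hM : Coh.IsCoh M) (m : ℕ) : (Curv2.euler k X (ShStab.twist X L M m) : ℚ) =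
      (Curv2.euler k X M : ℚ) + (m : ℚ) * DecSh.mult k X L M := by
  haveI : IsNoetherian X := CurveCohLib.isNoetherian_of_proper (k := k)
  rw [(euler_twist_linear (k := k) hdim hL hM m).1]; push_cast; ring

include k in
theorem euler_add' [IsNoetherian X] {S : ShortComplex X.Modules} (hS : S.ShortExact)
    (h₁ : Coh.IsCoh S.X₁) (h₂ : Coh.IsCoh S.X₂) (h₃ : Coh.IsCoh S.X₃) :
    Curv2.euler k X S.X₂ = Curv2.euler k X S.X₁ + Curv2.euler k X S.X₃ :=
  (HilbPoly.additive_euler k).add S hS h₁ h₂ h₃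

include k in
theorem euler_add (hL : PicF.IsInvertible L) {F E : X.Modules} (ι : F ⟶ E) [Mono ι] (hF : Coh.IsCoh F)
    (hE : Coh.IsCoh E) : Curv2.euler k X E = Curv2.euler k X F + Curv2.euler k X (cokernel ι) := by
  haveI : IsNoetherian X := CurveCohLib.isNoetherian_of_proper (k := k)
  have hQ := QCoh.isCoh_cokernel hF.1 hE ι
  let S : ShortComplex X.Modules := ShortComplex.mk ι (cokernel.π ι) (cokernel.condition ι)
  have hS : S.ShortExact :=
    .mk' (ShortComplex.exact_of_g_is_cokernel _ (cokernelIsCokernel ι)) inferInstance inferInstance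
  have h := euler_add' k (S := S) hS hF hE hQ
  exact h

variable {E D : X.Modules} {a b : ℕ}

include k in
/-- The sectional condition implies semistability. -/
theorem ss_of_sect [AlgebraicGeometry.IsReduced X] (hdim : topologicalKrullDim X = 1)
    (hpure : ∀ x : X, ¬ IsOpen ({x} : Set X)) (hL : CohB1.IsAmple L) (hE : Coh.IsCoh E)
    (htf : TorSh.IsTorsionFree E) (T : DecSh.TF E a b D) (δ : ℚ) (m : ℕ)
    (h : ∀ 𝓕 : DecSh.WFilt E, (∀ i, Coh.IsCoh ((𝓕.piece i : Subobject E) : X.Modules)) →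
      (∑ i, 𝓕.wt i * ((DecSh.mult k X L E : ℚ) *
          (Module.finrank k (Coh.HH X (ShStab.twist X L ((𝓕.piece i : Subobject E) : X.Modules) m) 0) : ℚ) -
        (DecSh.mult k X L ((𝓕.piece i : Subobject E) : X.Modules) : ℚ) *
          (Curv2.euler k X (ShStab.twist X L E m) : ℚ))) + δ * T.mu k L 𝓕 ≤ 0) :
    T.IsSemistable k L δ := by
  intro 𝓕 hok
  refine le_trans (add_le_add (Finset.sum_le_sum fun i _ => ?_) le_rfl) (h 𝓕 hok)
  refine mul_le_mul_of_nonneg_left ?_ (𝓕.wt_pos i).le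
  have h1 := one_le_mult (k := k) hdim hpure hL htf (𝓕.piece i).arrow (hok i) (𝓕.piece_nonzero i)
  have h2 := mult_le (k := k) hdim hL (𝓕.piece i).arrow (hok i) hE
  have h3 : (0 : ℚ) ≤ DecSh.mult k X L E := by exact_mod_cast (show (0 : ℤ) ≤ DecSh.mult k X L E by omega)
  have h4 := mul_le_mul_of_nonneg_left (euler_le_h0 k hdim (isCoh_twist k hL.1 (hok i) m)) h3
  rw [euler_twist_cast k hdim hL (hok i)] at h4
  rw [euler_twist_cast k hdim hL hE]
  linarith

include k in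
/-- Semistability implies the quotient sectional condition. -/
theorem quot_of_ss [AlgebraicGeometry.IsReduced X] (hdim : topologicalKrullDim X = 1)
    (hpure : ∀ x : X, ¬ IsOpen ({x} : Set X)) (hL : CohB1.IsAmple L) (hE : Coh.IsCoh E)
    (htf : TorSh.IsTorsionFree E) (T : DecSh.TF E a b D) (δ : ℚ) (m : ℕ) (hT : T.IsSemistable k L δ)
    (𝓕 : DecSh.WFilt E) (hok : ∀ i, Coh.IsCoh ((𝓕.piece i : Subobject E) : X.Modules)) :
    (∑ i, 𝓕.wt i * ((DecSh.mult k X L (cokernel (𝓕.piece i).arrow) : ℚ) *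
        (Curv2.euler k X (ShStab.twist X L E m) : ℚ) -
      (DecSh.mult k X L E : ℚ) *
        (Module.finrank k (Coh.HH X (ShStab.twist X L (cokernel (𝓕.piece i).arrow) m) 0) : ℚ))) +
      δ * T.mu k L 𝓕 ≤ 0 := by
  refine le_trans (add_le_add (Finset.sum_le_sum fun i _ => ?_) le_rfl) (hT 𝓕 hok)
  refine mul_le_mul_of_nonneg_left ?_ (𝓕.wt_pos i).le
  have h1 := one_le_mult (k := k) hdim hpure hL htf (𝓕.piece i).arrow (hok i) (𝓕.piece_nonzero i)
  have h2 := mult_le (k := k) hdim hL (𝓕.piece i).arrow (hok i) hE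
  have h3 : (0 : ℚ) ≤ DecSh.mult k X L E := by exact_mod_cast (show (0 : ℤ) ≤ DecSh.mult k X L E by omega)
  have hQ : Coh.IsCoh (cokernel (𝓕.piece i).arrow) :=
    haveI := CurveCohLib.isNoetherian_of_proper (k := k) (X := X)
    QCoh.isCoh_cokernel (hok i).1 hE _
  have h4 := mul_le_mul_of_nonneg_left (euler_le_h0 k hdim (isCoh_twist k hL.1 hQ m)) h3
  rw [euler_twist_cast k hdim hL hQ] at h4
  rw [euler_twist_cast k hdim hL hE]
  have ha : (DecSh.mult k X L E : ℚ) = DecSh.mult k X L ((𝓕.piece i : Subobject E) : X.Modules) +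
      DecSh.mult k X L (cokernel (𝓕.piece i).arrow) := by
    exact_mod_cast mult_add k hL.1 (𝓕.piece i).arrow (hok i) hE
  have he : (Curv2.euler k X E : ℚ) = Curv2.euler k X ((𝓕.piece i : Subobject E) : X.Modules) +
      Curv2.euler k X (cokernel (𝓕.piece i).arrow) := by
    exact_mod_cast euler_add k hL.1 (𝓕.piece i).arrow (hok i) hE
  rw [ha] at h4
  beta_reduce
  rw [he, ha]
  linarith

include k in
/-- For large `m` the quotient sectional condition implies semistability and vanishing. -/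
theorem exists_ss_of_quot [Infinite k] [AlgebraicGeometry.IsReduced X] (hdim : topologicalKrullDim X = 1)
    (hpure : ∀ x : X, ¬ IsOpen ({x} : Set X)) (hL : CohB1.IsAmple L) {δ : ℚ} (hδ : 0 < δ) (α e : ℤ) (a b : ℕ) :
    ∃ N : ℕ, ∀ m : ℕ, N ≤ m → ∀ E : X.Modules, Coh.IsCoh E → TorSh.IsTorsionFree E →
      DecSh.mult k X L E = α → Curv2.euler k X E = e → ∀ (D : X.Modules) (T : DecSh.TF E a b D),
      (∀ 𝓕 : DecSh.WFilt E, (∀ i, Coh.IsCoh ((𝓕.piece i : Subobject E) : X.Modules)) →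
        (∑ i, 𝓕.wt i * ((DecSh.mult k X L (cokernel (𝓕.piece i).arrow) : ℚ) *
            (Curv2.euler k X (ShStab.twist X L E m) : ℚ) -
          (α : ℚ) * (Module.finrank k (Coh.HH X (ShStab.twist X L (cokernel (𝓕.piece i).arrow) m) 0) : ℚ))) +
          δ * T.mu k L 𝓕 ≤ 0) →
      T.IsSemistable k L δ ∧ Subsingleton (Coh.HH X (ShStab.twist X L E m) 1) := by
  haveI : IsNoetherian X := CurveCohLib.isNoetherian_of_proper (k := k)
  obtain ⟨N, hN⟩ := exists_quot_vanish k hdim hpure hL hδ α e a b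
  refine ⟨N, fun m hm E hE htf hα he D T h => ?_⟩
  obtain ⟨hv, hvE⟩ := hN m hm E hE htf hα he D T h
  refine ⟨fun 𝓕 hok => le_of_eq_of_le ?_ (h 𝓕 hok), hvE⟩
  refine congrArg (· + _) (Finset.sum_congr rfl fun i _ => congrArg (_ * ·) ?_)
  have hQ : Coh.IsCoh (cokernel (𝓕.piece i).arrow) := QCoh.isCoh_cokernel (hok i).1 hE _
  have h4 : (Module.finrank k (Coh.HH X (ShStab.twist X L (cokernel (𝓕.piece i).arrow) m) 0) : ℚ) =
      (Curv2.euler k X (cokernel (𝓕.piece i).arrow) : ℚ) + (m : ℚ) * DecSh.mult k X L (cokernel (𝓕.piece i).arrow) := by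
    rw [← euler_twist_cast k hdim hL hQ]
    exact_mod_cast euler_eq_h0 k hdim (isCoh_twist k hL.1 hQ m) (hv _ (hok i))
  have ha : (DecSh.mult k X L E : ℚ) = DecSh.mult k X L ((𝓕.piece i : Subobject E) : X.Modules) +
      DecSh.mult k X L (cokernel (𝓕.piece i).arrow) := by
    exact_mod_cast mult_add k hL.1 (𝓕.piece i).arrow (hok i) hE
  have he' : (Curv2.euler k X E : ℚ) = Curv2.euler k X ((𝓕.piece i : Subobject E) : X.Modules) +
      Curv2.euler k X (cokernel (𝓕.piece i).arrow) := by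
    exact_mod_cast euler_add k hL.1 (𝓕.piece i).arrow (hok i) hE
  rw [h4, euler_twist_cast k hdim hL hE, ← hα, ha, he']
  ring

include k in
/-- For large `m` semistability implies the sectional condition, with equality only if no piece has `h¹`. -/
theorem exists_sect_of_ss [IsAlgClosed k] [CharZero k] [AlgebraicGeometry.IsReduced X]
    (hdim : topologicalKrullDim X = 1) (hpure : ∀ x : X, ¬ IsOpen ({x} : Set X)) (hL : CohB1.IsAmple L)
    {δ : ℚ} (hδ : 0 < δ) (α e : ℤ) (a b : ℕ) :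
    ∃ N : ℕ, ∀ m : ℕ, N ≤ m → ∀ E : X.Modules, Coh.IsCoh E → TorSh.IsTorsionFree E →
      DecSh.mult k X L E = α → Curv2.euler k X E = e → ∀ (D : X.Modules) (T : DecSh.TF E a b D),
      T.IsSemistable k L δ → ∀ 𝓕 : DecSh.WFilt E, (∀ i, Coh.IsCoh ((𝓕.piece i : Subobject E) : X.Modules)) →
        (∑ i, 𝓕.wt i * ((α : ℚ) *
            (Module.finrank k (Coh.HH X (ShStab.twist X L ((𝓕.piece i : Subobject E) : X.Modules) m) 0) : ℚ) -
          (DecSh.mult k X L ((𝓕.piece i : Subobject E) : X.Modules) : ℚ) *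
            (Curv2.euler k X (ShStab.twist X L E m) : ℚ))) + δ * T.mu k L 𝓕 ≤ 0 ∧
        ((∑ i, 𝓕.wt i * ((α : ℚ) *
            (Module.finrank k (Coh.HH X (ShStab.twist X L ((𝓕.piece i : Subobject E) : X.Modules) m) 0) : ℚ) -
          (DecSh.mult k X L ((𝓕.piece i : Subobject E) : X.Modules) : ℚ) *
            (Curv2.euler k X (ShStab.twist X L E m) : ℚ))) + δ * T.mu k L 𝓕 = 0 →
          ∀ i, (Module.finrank k (Coh.HH X (ShStab.twist X L ((𝓕.piece i : Subobject E) : X.Modules) m) 0) : ℤ) =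
            Curv2.euler k X (ShStab.twist X L ((𝓕.piece i : Subobject E) : X.Modules) m)) := by
  haveI : IsNoetherian X := CurveCohLib.isNoetherian_of_proper (k := k)
  obtain ⟨N, hN⟩ := exists_dichotomy k hdim hpure hL α e (|(e : ℚ)| + δ * a) (δ * ((a : ℚ) * |(α : ℚ)|) + 1)
  refine ⟨N, fun m hm E hE htf hα he D T hT 𝓕 hok => ?_⟩
  have hsub : ∀ (G : X.Modules) (ι : G ⟶ E), Mono ι → Coh.IsCoh G → ¬ IsZero G →
      (Curv2.euler k X G : ℚ) ≤ |(e : ℚ)| + δ * a := fun G ι hι hG hG0 => by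
    haveI := hι
    rw [← he]
    exact euler_sub_le k hdim hpure hL hδ T hT hE htf G ι hG hG0
  have h1 : ∀ i, 1 ≤ DecSh.mult k X L ((𝓕.piece i : Subobject E) : X.Modules) := fun i =>
    one_le_mult hdim hpure hL htf (𝓕.piece i).arrow (hok i) (𝓕.piece_nonzero i)
  have h2 : ∀ i, DecSh.mult k X L ((𝓕.piece i : Subobject E) : X.Modules) ≤ DecSh.mult k X L E := fun i =>
    mult_le hdim hL (𝓕.piece i).arrow (hok i) hE
  have hα1 : (1 : ℚ) ≤ α := by
    exact_mod_cast hα ▸ (h1 ⟨0, 𝓕.t_pos⟩).trans (h2 ⟨0, 𝓕.t_pos⟩)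
  have hK : δ * ((a : ℚ) * ((DecSh.mult k X L E : ℚ) - 1)) < δ * ((a : ℚ) * |(α : ℚ)|) + 1 := by
    rw [hα, abs_of_nonneg (by linarith : (0 : ℚ) ≤ α)]
    have : 0 ≤ δ * (a : ℚ) := by positivity
    linarith
  have hx : ∀ i, ((α : ℚ) *
      (Module.finrank k (Coh.HH X (ShStab.twist X L ((𝓕.piece i : Subobject E) : X.Modules) m) 0) : ℚ) -
      (DecSh.mult k X L ((𝓕.piece i : Subobject E) : X.Modules) : ℚ) *
        (Curv2.euler k X (ShStab.twist X L E m) : ℚ)) =
      (DecSh.mult k X L E : ℚ) * (Curv2.euler k X ((𝓕.piece i : Subobject E) : X.Modules) : ℚ) -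
        (DecSh.mult k X L ((𝓕.piece i : Subobject E) : X.Modules) : ℚ) * (Curv2.euler k X E : ℚ) ∨
      ((α : ℚ) *
      (Module.finrank k (Coh.HH X (ShStab.twist X L ((𝓕.piece i : Subobject E) : X.Modules) m) 0) : ℚ) -
      (DecSh.mult k X L ((𝓕.piece i : Subobject E) : X.Modules) : ℚ) *
        (Curv2.euler k X (ShStab.twist X L E m) : ℚ)) ≤ -(δ * ((a : ℚ) * |(α : ℚ)|) + 1) := fun i => by
    rcases hN E hE htf hα he hsub m hm _ (𝓕.piece i).arrow inferInstance (hok i) (𝓕.piece_nonzero i)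
      with hv | hb
    · left
      have h4 : (Module.finrank k (Coh.HH X (ShStab.twist X L ((𝓕.piece i : Subobject E) : X.Modules) m) 0) : ℚ) =
          (Curv2.euler k X ((𝓕.piece i : Subobject E) : X.Modules) : ℚ) +
            (m : ℚ) * DecSh.mult k X L ((𝓕.piece i : Subobject E) : X.Modules) := by
        rw [← euler_twist_cast k hdim hL (hok i)]
        exact_mod_cast euler_eq_h0 k hdim (isCoh_twist k hL.1 (hok i) m) hv
      rw [h4, euler_twist_cast k hdim hL hE, hα]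
      ring
    · exact Or.inr hb
  obtain ⟨hle, heq⟩ := deltaSS_sect hT hδ.le 𝓕 hok h1 h2 _ _ hK.le hx
  refine ⟨hle, fun h0 i => ?_⟩
  have hi := heq hK h0 i
  rw [euler_twist_cast k hdim hL hE, hα] at hi
  have h5 : (α : ℚ) * (Module.finrank k (Coh.HH X (ShStab.twist X L ((𝓕.piece i : Subobject E) : X.Modules) m) 0) : ℚ) =
      (α : ℚ) * (Curv2.euler k X (ShStab.twist X L ((𝓕.piece i : Subobject E) : X.Modules) m) : ℚ) := by
    rw [euler_twist_cast k hdim hL (hok i)]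
    linarith
  exact_mod_cast mul_left_cancel₀ (by linarith : (α : ℚ) ≠ 0) h5

end Groth.Agent.DecShLib
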