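import Groth.Agent.DecShLib.Mult

/-!
# Bounds on the weight function of weighted filtrations
-/

set_option linter.style.haveILetI false
set_option linter.unusedSectionVars false

universe v u

open CategoryTheory CategoryTheory.Limits

namespace Groth.Agent.DecShLib

variable {C : Type u} [Category.{v} C] {E : C} (𝓕 : DecSh.WFilt E) (αE : ℤ) (α : Subobject E → ℤ)
  (h1 : ∀ i, 1 ≤ α (𝓕.piece i)) (h2 : ∀ i, α (𝓕.piece i) ≤ αE)

include h1 h2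

theorem abs_term_le {a : ℕ} (I : Fin a → Fin (𝓕.t + 1)) (i : Fin 𝓕.t) :
    |(a : ℚ) * (α (𝓕.piece i) : ℚ) - (𝓕.nu αE α I i : ℚ) * (αE : ℚ)| ≤ (a : ℚ) * ((αE : ℚ) - 1) := by
  have hν : 𝓕.nu αE α I i ≤ a := (Finset.card_filter_le _ _).trans (by simp)
  have ha : (1 : ℚ) ≤ α (𝓕.piece i) := by exact_mod_cast h1 i
  have hE : (α (𝓕.piece i) : ℚ) ≤ αE := by exact_mod_cast h2 i
  rcases (h2 i).lt_or_eq with hlt | heq
  · have hlt' : (α (𝓕.piece i) : ℚ) ≤ αE - 1 := by exact_mod_cast Int.le_sub_one_of_lt hlt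
    have hν' : (𝓕.nu αE α I i : ℚ) ≤ a := by exact_mod_cast hν
    rw [abs_le]
    constructor <;> nlinarith [(a : ℕ).cast_nonneg (α := ℚ), (𝓕.nu αE α I i).cast_nonneg (α := ℚ)]
  · have hν' : 𝓕.nu αE α I i = a := by
      unfold DecSh.WFilt.nu
      rw [Finset.filter_true_of_mem, Finset.card_univ, Fintype.card_fin]
      intro j _
      rw [heq]
      refine Fin.lastCases (motive := fun J => 𝓕.mulX αE α J ≤ αE) ?_ (fun l => ?_) (I j)
      · simp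
      · simpa using h2 l
    rw [hν', heq, sub_self, abs_zero]
    have h0 : (0 : ℚ) ≤ (αE : ℚ) - 1 := by linarith
    positivity

theorem abs_gam_le {a : ℕ} (I : Fin a → Fin (𝓕.t + 1)) :
    |𝓕.gam αE α I| ≤ (∑ i, 𝓕.wt i) * (a : ℚ) * ((αE : ℚ) - 1) := by
  unfold DecSh.WFilt.gam
  refine (Finset.abs_sum_le_sum_abs _ _).trans ?_
  rw [mul_assoc, Finset.sum_mul]
  refine Finset.sum_le_sum fun i _ => ?_
  rw [abs_mul, abs_of_pos (𝓕.wt_pos i)]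
  exact mul_le_mul_of_nonneg_left (abs_term_le 𝓕 αE α h1 h2 I i) (𝓕.wt_pos i).le

theorem abs_mu_le {a : ℕ} (N : DecSh.NV E a) :
    |𝓕.mu αE α N| ≤ (∑ i, 𝓕.wt i) * (a : ℚ) * ((αE : ℚ) - 1) := by
  obtain ⟨I, -, hI⟩ := 𝓕.exists_gam_eq_mu αE α N
  rw [← hI]
  exact abs_gam_le 𝓕 αE α h1 h2 I

theorem mu_le_sub {a : ℕ} (N : DecSh.NV E a) (𝓕₁ : DecSh.WFilt E) (e : Fin 𝓕₁.t → Fin 𝓕.t)
    (hpiece : ∀ j, 𝓕₁.piece j = 𝓕.piece (e j)) (hwt : ∀ j, 𝓕₁.wt j = 𝓕.wt (e j)) :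
    𝓕.mu αE α N ≤ 𝓕₁.mu αE α N + ((∑ i, 𝓕.wt i) - ∑ j, 𝓕₁.wt j) * (a : ℚ) * ((αE : ℚ) - 1) := by
  classical
  have he : Function.Injective e := fun j j' h =>
    𝓕₁.piece_strictMono.injective (by rw [hpiece, hpiece, h])
  obtain ⟨J, hJ, hJv⟩ := 𝓕₁.exists_gam_eq_mu αE α N
  let e' : Fin (𝓕₁.t + 1) → Fin (𝓕.t + 1) := Fin.lastCases (Fin.last _) fun l => (e l).castSucc
  have hp : ∀ l, 𝓕.pieceX (e' l) = 𝓕₁.pieceX l ∧ 𝓕.mulX αE α (e' l) = 𝓕₁.mulX αE α l := fun l => by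
    induction l using Fin.lastCases with
    | last => simp [e']
    | cast l => simp [e', hpiece l]
  let I := fun j => e' (J j)
  have hI : 𝓕.Adm N I := by
    unfold DecSh.WFilt.Adm at *
    simpa [I, (hp _).1] using hJ
  refine (𝓕.mu_le_gam αE α N hI).trans ?_
  rw [← hJv]
  unfold DecSh.WFilt.gam
  have hs : ∀ j, 𝓕.wt (e j) * ((a : ℚ) * (α (𝓕.piece (e j)) : ℚ) - (𝓕.nu αE α I (e j) : ℚ) * (αE : ℚ)) =
      𝓕₁.wt j * ((a : ℚ) * (α (𝓕₁.piece j) : ℚ) - (𝓕₁.nu αE α J j : ℚ) * (αE : ℚ)) := fun j => by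
    have hν : 𝓕.nu αE α I (e j) = 𝓕₁.nu αE α J j := by
      unfold DecSh.WFilt.nu
      congr 1
      refine Finset.filter_congr fun l _ => ?_
      rw [(hp (J l)).2, hpiece j]
    rw [hν, hpiece, hwt]
  let T := Finset.univ.image e
  rw [← Finset.sum_add_sum_compl T, ← Finset.sum_add_sum_compl T 𝓕.wt, Finset.sum_image he.injOn,
    Finset.sum_image he.injOn, Finset.sum_congr rfl fun j _ => hs j,
    Finset.sum_congr rfl (fun j _ => (hwt j).symm), add_sub_cancel_left, mul_assoc, Finset.sum_mul]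
  refine add_le_add le_rfl (Finset.sum_le_sum fun i _ => ?_)
  exact mul_le_mul_of_nonneg_left (le_of_abs_le (abs_term_le 𝓕 αE α h1 h2 I i)) (𝓕.wt_pos i).le

end Groth.Agent.DecShLib
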