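import Groth.Agent.DecShLib.Vanish
import Groth.Agent.Pic13Lib.BoundedRegular
import Groth.Agent.Pic13Lib.RegGenerator
import Groth.Agent.AmpleX.Generated
import Groth.Agent.VAmpleX.AnyBase17
import Groth.Agent.SeesawX.PnSpec
import Groth.Agent.HilbPoly.EllSimple
import Groth.Agent.S19313

/-!
# Boundedness of torsion free sheaves on a reduced curve with bounded subsheaves
-/

set_option autoImplicit false
set_option linter.style.haveILetI false
set_option linter.unusedSectionVars false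
set_option backward.isDefEq.respectTransparency false
set_option backward.isDefEq.respectTransparency.types false
set_option maxHeartbeats 1600000

universe u

open CategoryTheory CategoryTheory.Limits AlgebraicGeometry TopologicalSpace Opposite

noncomputable section

namespace Groth.Agent.DecShLib

open Groth.Agent Groth.Agent.H23 Groth.Agent.H23.PicMul
attribute [local instance] PicMul.clMonoid

variable {X : Scheme.{u}} (k : Type u) [Field k] [X.Over (Spec (CommRingCat.of k))]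
  [IsProper (X ↘ Spec (CommRingCat.of k))] {L : X.Modules}

include k in
/-- Some power of an ample module comes from a closed immersion into projective space. -/
theorem exists_projEmbedding (hL : CohB1.IsAmple L) :
    ∃ (a n : ℕ) (_ : 0 < a) (ι : X ⟶ CohB1.ProjSpace n k), IsClosedImmersion ι ∧
      ι ≫ CohB1.ProjSpace.toSpec n k = X ↘ Spec (CommRingCat.of k) ∧
      Nonempty (CohB1.tensorPow L a ≅ (Scheme.Modules.pullback ι).obj (Twist.twistProjSpace n k 1)) := by
  obtain ⟨n₀, hn₀⟩ := VAmpleX.eventually_veryAmple_gen (X ↘ Spec (CommRingCat.of k)) hL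
  obtain ⟨n, i, hi, hi2, ⟨e⟩⟩ := hn₀ (n₀ + 1) (Nat.le_succ _)
  obtain ⟨g, hg, ⟨τ⟩⟩ := SeesawX.PnSpec.exists_iso n k
  haveI := hi
  let ι : X ⟶ CohB1.ProjSpace n k := i ≫ g.hom
  have hι : ι ≫ CohB1.ProjSpace.toSpec n k = X ↘ Spec (CommRingCat.of k) := by
    rw [Category.assoc, hg]
    exact hi2
  haveI : IsProper (CohB1.ProjSpace.toSpec n k) := PnCoh.Chow.isProper_toSpec n _
  haveI : IsImmersion ι := inferInstance
  haveI : IsProper (ι ≫ CohB1.ProjSpace.toSpec n k) := hι.symm ▸ inferInstance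
  haveI : IsProper ι := IsProper.of_comp ι (CohB1.ProjSpace.toSpec n k)
  haveI : IsClosedImmersion ι := .of_isPreimmersion ι ι.isClosedMap.isClosed_range
  exact ⟨n₀ + 1, n, Nat.succ_pos _, ι, inferInstance, hι, ⟨e ≪≫ (Scheme.Modules.pullback i).mapIso τ.symm ≪≫
    (Scheme.Modules.pullbackComp i g.hom).app (Twist.twistProjSpace n k 1)⟩⟩

/-- Such sheaves are uniformly regular for a closed immersion into projective space, with boundedly many sections. -/
theorem exists_regular_data [AlgebraicGeometry.IsReduced X] [Infinite k] (hdim : topologicalKrullDim X = 1)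
    (hpure : ∀ x : X, ¬ IsOpen ({x} : Set X)) (hL : CohB1.IsAmple L) (α e : ℤ) (C : ℚ) :
    ∃ (n : ℕ) (ι : X ⟶ CohB1.ProjSpace n k) (_ : IsClosedImmersion ι)
      (_ : ι ≫ CohB1.ProjSpace.toSpec n k = X ↘ Spec (CommRingCat.of k)) (m : ℤ) (N : ℕ),
      ∀ F : X.Modules, Coh.IsCoh F → TorSh.IsTorsionFree F → DecSh.mult k X L F = α →
        Curv2.euler k X F = e → (∀ (G : X.Modules) (ι : G ⟶ F), Mono ι → Coh.IsCoh G → ¬ IsZero G →
          (Curv2.euler k X G : ℚ) ≤ C) →
        Pic13.IsMRegular k ι F m ∧ Module.finrank k (Coh.HH X (Pic13.twistOn k ι F m) 0) ≤ N := by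
  haveI := CurveCohLib.isNoetherian_of_proper (k := k) (X := X)
  haveI : X.IsSeparated := AmpleVan.isSeparated_of_proper (A := k)
  obtain ⟨m₀, hm₀⟩ := exists_vanish (k := k) hdim hpure hL α e C
  obtain ⟨a, n, ha, ι, hιc, hι, ⟨eL⟩⟩ := exists_projEmbedding k hL
  haveI := hιc
  let m : ℕ := m₀ + 1
  refine ⟨n, ι, hιc, hι, (m : ℤ), (e + ((a * m : ℕ) : ℤ) * α).toNat, ?_⟩
  intro F hF htf hα he hsub
  have hd1 : topologicalKrullDim X ≤ ((1 : ℕ) : WithBot ℕ∞) := by rw [hdim]; rfl
  have key : ∀ j : ℕ, Nonempty (ShStab.twist X L F (a * j) ≅ Pic13.twistOn k ι F (j : ℤ)) := fun j => by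
    obtain ⟨e₁⟩ := HilbPoly.twist_tensorPow_pn (k := k) n j
    obtain ⟨e₂⟩ := HilbPoly.pull_tensorPow ι (Twist.twistProjSpace n k 1) j
    refine cl_eq_iff.1 ?_
    show PicF.cl (CohB1.tensorMod F _) = PicF.cl (CohB1.tensorMod F _)
    rw [cl_tensor, cl_tensor, cl_tensorPow, cl_eq_iff.2 ⟨(Scheme.Modules.pullback ι).mapIso e₁⟩,
      cl_eq_iff.2 ⟨e₂⟩, cl_tensorPow, ← cl_eq_iff.2 ⟨eL⟩, cl_tensorPow, ← pow_mul]
  have hv : ∀ j : ℕ, m₀ ≤ j → Subsingleton (Coh.HH X (ShStab.twist X L F (a * j)) 1) := fun j hj =>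
    hm₀ F hF htf hα he hsub _ (hj.trans (Nat.le_mul_of_pos_left _ ha))
  refine ⟨fun q hq => ?_, ?_⟩
  · rcases q with _ | _ | q
    · omega
    · have hm : ((m : ℤ) - ((0 + 1 : ℕ) : ℤ)) = (m₀ : ℤ) := by push_cast [m]; ring
      rw [hm]
      obtain ⟨e'⟩ := key m₀
      exact QCoh.subsingleton_HH_of_iso e' 1 (hv m₀ le_rfl)
    · exact Snapper.subsingleton_HH_of_dim_le hd1 (Pic13Regular.isCoh_twistOn ι hF _).1 (by omega)
  · obtain ⟨e'⟩ := key m
    rw [← (CurveCohLib.hhEquiv (k := k) e' 0).finrank_eq]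
    have hvan : ∀ i, 1 ≤ i → Subsingleton (Coh.HH X (ShStab.twist X L F (a * m)) i) := fun i hi => by
      rcases i with _ | _ | i
      · omega
      · exact hv m (Nat.le_succ _)
      · exact QCoh.subsingleton_HH_of_iso e'.symm _
          (Snapper.subsingleton_HH_of_dim_le hd1 (Pic13Regular.isCoh_twistOn ι hF _).1 (by omega))
    have h1 := Euler.euler_eq_sum k (ShStab.twist X L F (a * m)) 1 hvan
    rw [Finset.sum_range_one, pow_zero, one_mul, (euler_twist_linear (k := k) hdim hL hF (a * m)).1, he, hα] at h1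
    omega

/-- Torsion free sheaves with given multiplicity and Euler characteristic whose subsheaves have bounded Euler
characteristic form a bounded family. -/
theorem isBounded_of_sub_bound [AlgebraicGeometry.IsReduced X] [Infinite k] (hdim : topologicalKrullDim X = 1)
    (hpure : ∀ x : X, ¬ IsOpen ({x} : Set X)) (hL : CohB1.IsAmple L) (α e : ℤ) (C : ℚ) :
    Pic13.IsBounded k X (fun F => Coh.IsCoh F ∧ TorSh.IsTorsionFree F ∧ DecSh.mult k X L F = α ∧
      Curv2.euler k X F = e ∧ ∀ (G : X.Modules) (ι : G ⟶ F), Mono ι → Coh.IsCoh G → ¬ IsZero G →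
        (Curv2.euler k X G : ℚ) ≤ C) := by
  obtain ⟨n, ι, hιc, hι, m, N, h⟩ := exists_regular_data k hdim hpure hL α e C
  haveI := hιc
  exact Pic13Lib.isBounded_mono (fun F ⟨hF, htf, hα, he, hsub⟩ => ⟨hF, h F hF htf hα he hsub⟩)
    (Pic13Lib.isBounded_regular_h0 k n X ι hι m N)

/-- Uniform vanishing and global generation of the twists of such sheaves. -/
theorem exists_generated [AlgebraicGeometry.IsReduced X] [Infinite k] (hdim : topologicalKrullDim X = 1)
    (hpure : ∀ x : X, ¬ IsOpen ({x} : Set X)) (hL : CohB1.IsAmple L) (α e : ℤ) (C : ℚ) :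
    ∃ n₀ : ℕ, ∀ F : X.Modules, Coh.IsCoh F → TorSh.IsTorsionFree F → DecSh.mult k X L F = α →
      Curv2.euler k X F = e → (∀ (G : X.Modules) (ι : G ⟶ F), Mono ι → Coh.IsCoh G → ¬ IsZero G →
        (Curv2.euler k X G : ℚ) ≤ C) →
      ∀ m : ℕ, n₀ ≤ m → Subsingleton (Coh.HH X (ShStab.twist X L F m) 1) ∧
        Curv2.IsGloballyGenerated (ShStab.twist X L F m) := by
  haveI := CurveCohLib.isNoetherian_of_proper (k := k) (X := X)
  haveI : X.IsSeparated := AmpleVan.isSeparated_of_proper (A := k)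
  obtain ⟨m₀, hm₀⟩ := exists_vanish (k := k) hdim hpure hL α e C
  obtain ⟨n, ι, hιc, hι, m, N, h⟩ := exists_regular_data k hdim hpure hL α e C
  haveI := hιc
  obtain ⟨E₀, hE₀, hq⟩ := Pic13Lib.exists_generator_regular k n X ι hι m N
  obtain ⟨n₁, hn₁⟩ := AmpleX.eventually_isGloballyGenerated hL hE₀.1 hE₀.2
  refine ⟨max m₀ n₁, fun F hF htf hα he hsub j hj => ⟨hm₀ F hF htf hα he hsub j (le_of_max_le_left hj), ?_⟩⟩
  obtain ⟨q, hqe⟩ := hq F hF (h F hF htf hα he hsub).1 (h F hF htf hα he hsub).2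
  obtain ⟨κ, p, hp⟩ := hn₁ j (le_of_max_le_right hj)
  haveI := AmpleVan.isEquivalence_tw (InvX.isInvertible_tensorPow hL.1 j)
  haveI := hqe
  haveI := hp
  exact ⟨κ, p ≫ (AmpleVan.tw (CohB1.tensorPow L j)).map q, epi_comp _ _⟩

/-- Subsheaves of semistable tensor fields have bounded Euler characteristic. -/
theorem euler_sub_le [IsAlgClosed k] [CharZero k] [AlgebraicGeometry.IsReduced X]
    (hdim : topologicalKrullDim X = 1) (hpure : ∀ x : X, ¬ IsOpen ({x} : Set X)) (hL : CohB1.IsAmple L)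
    {δ : ℚ} (hδ : 0 < δ) {F D : X.Modules} {a b : ℕ} (T : DecSh.TF F a b D) (hT : T.IsSemistable k L δ)
    (hF : Coh.IsCoh F) (htf : TorSh.IsTorsionFree F) (G : X.Modules) (ι : G ⟶ F) [Mono ι] (hG : Coh.IsCoh G)
    (hG0 : ¬ IsZero G) : (Curv2.euler k X G : ℚ) ≤ |(Curv2.euler k X F : ℚ)| + δ * a := by
  haveI := CurveCohLib.isNoetherian_of_proper (k := k) (X := X)
  have hδa : 0 ≤ δ * (a : ℚ) := by positivity
  have habs := le_abs_self (Curv2.euler k X F : ℚ)
  by_cases hι : IsIso ι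
  · haveI := hι
    have h : Curv2.euler k X G = Curv2.euler k X F := (HilbPoly.additive_euler k).iso _ _ ⟨asIso ι⟩
    rw [h]
    linarith
  have h := S19313.result k X hdim hpure L hL F hF htf T δ hδ hT G ι hG hG0 hι
  have h1 : (1 : ℚ) ≤ DecSh.mult k X L G := by exact_mod_cast one_le_mult hdim hpure hL htf ι hG hG0
  have h2 : (DecSh.mult k X L G : ℚ) ≤ DecSh.mult k X L F := by exact_mod_cast mult_le hdim hL ι hG hF
  have hα : (0 : ℚ) < DecSh.mult k X L F := by linarith
  refine le_of_mul_le_mul_left ?_ hα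
  have h3 : (DecSh.mult k X L G : ℚ) * (Curv2.euler k X F : ℚ) ≤
      (DecSh.mult k X L F : ℚ) * |(Curv2.euler k X F : ℚ)| :=
    (mul_le_mul_of_nonneg_left habs (by linarith)).trans (mul_le_mul_of_nonneg_right h2 (abs_nonneg _))
  have h4 : δ * (a : ℚ) * ((DecSh.mult k X L F : ℚ) - DecSh.mult k X L G) ≤
      δ * (a : ℚ) * (DecSh.mult k X L F : ℚ) := mul_le_mul_of_nonneg_left (by linarith) hδa
  linarith

end Groth.Agent.DecShLib
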