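import Groth.Agent.HilbPoly.Stab
import Groth.Agent.CurveCohLib.SubBundle
import Groth.Agent.Triage.SliceCM
import Groth.Agent.CAlgOdd.NormalRing
import Groth.Prelude.Def_DecSh2
import Groth.Prelude.Def_TorSh

/-!
# Multiplicities of subsheaves of torsion free sheaves on reduced curves
-/

set_option linter.style.haveILetI false
set_option linter.unusedSectionVars false
set_option backward.isDefEq.respectTransparency false
set_option backward.isDefEq.respectTransparency.types false

universe u

open CategoryTheory CategoryTheory.Limits AlgebraicGeometry TopologicalSpace Opposite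

noncomputable section

namespace Groth.Agent.DecShLib

open Groth.Agent

variable {X : Scheme.{u}}

/-- A regular element of the maximal ideal at a closed point which is not open. -/
theorem exists_regular_mem [IsLocallyNoetherian X] [AlgebraicGeometry.IsReduced X] (x : X)
    (hcl : IsClosed ({x} : Set X)) (hx : ¬ IsOpen ({x} : Set X)) :
    ∃ a ∈ IsLocalRing.maximalIdeal (X.presheaf.stalk x), a ∈ nonZeroDivisors (X.presheaf.stalk x) := by
  set R := X.presheaf.stalk x
  have hm : IsLocalRing.maximalIdeal R ∉ minimalPrimes R := by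
    intro hm
    refine hx (Triage.SliceCM.isOpen_singleton_of_minimal_scheme x hcl fun w hw => ?_)
    obtain ⟨q, hq⟩ : w ∈ Set.range (X.fromSpecStalk x) := by rw [Scheme.range_fromSpecStalk]; exact hw
    have h1 : q.asIdeal = IsLocalRing.maximalIdeal R :=
      le_antisymm (IsLocalRing.le_maximalIdeal q.isPrime.ne_top)
        (hm.2 ⟨q.isPrime, bot_le⟩ (IsLocalRing.le_maximalIdeal q.isPrime.ne_top))
    have h2 : q = IsLocalRing.closedPoint R := PrimeSpectrum.ext h1
    rw [← hq, h2, Scheme.fromSpecStalk_closedPoint]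
  have hfin := minimalPrimes.finite_of_isNoetherianRing R
  obtain ⟨a, ha, hna⟩ : ∃ a ∈ IsLocalRing.maximalIdeal R, ∀ Q ∈ minimalPrimes R, a ∉ Q := by
    by_contra hne
    push Not at hne
    obtain ⟨Q, hQ, hle⟩ := (Ideal.subset_union_prime (R := R) (s := hfin.toFinset) (f := id) ⊥ ⊥
      (fun Q hQ _ _ => (hfin.mem_toFinset.1 hQ).1.1)).1
      (fun a ha => by
        obtain ⟨Q, hQ, haQ⟩ := hne a ha
        exact Set.mem_biUnion (hfin.mem_toFinset.2 hQ) haQ)
    have hQ' := hfin.mem_toFinset.1 hQ
    exact hm ((le_antisymm hle (IsLocalRing.le_maximalIdeal hQ'.1.1.ne_top)) ▸ hQ')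
  exact ⟨a, ha, CAlgOdd.mem_nonZeroDivisors_of_notMem hna⟩

/-- A torsion free module has no submodules supported on closed points. -/
theorem isZero_of_closedSupport [IsNoetherian X] [AlgebraicGeometry.IsReduced X]
    (hpure : ∀ x : X, ¬ IsOpen ({x} : Set X)) {E : X.Modules} (htf : TorSh.IsTorsionFree E)
    {F : X.Modules} (ι : F ⟶ E) [Mono ι] (hF : Coh.IsCoh F)
    (h0 : ∀ x ∈ CohB1.support F, IsClosed ({x} : Set X)) : IsZero F := by
  refine CurveCohLib.isZero_of_subsingleton_stalks fun x => not_not.1 fun hx => hx ?_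
  refine subsingleton_of_forall_eq 0 fun m => ?_
  obtain ⟨s, hsm, hs⟩ := CurveCohLib.exists_section_single hF h0 hx m
  obtain ⟨a, ha, hreg⟩ := exists_regular_mem x (h0 x hx) (hpure x)
  obtain ⟨W, hxW, b, rfl⟩ := X.presheaf.germ_exist a
  obtain ⟨_, ⟨U, hU, rfl⟩, hxU, hUW⟩ := X.isBasis_affineOpens.exists_subset_of_mem_open hxW W.2
  let c : Γ(X, U) := X.presheaf.map (homOfLE hUW).op b
  have hc : X.presheaf.germ U x hxU c = X.presheaf.germ W x hxW b := X.presheaf.germ_res_apply _ x hxU b
  let t : Γ(F, U) := F.presheaf.map (homOfLE (le_top (a := U))).op s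
  have ht : F.presheaf.map (homOfLE (X.basicOpen_le c)).op t = 0 := by
    refine QCoh.eq_zero_of_locally _ _ fun y hy => ?_
    have hyx : y ≠ x := by
      rintro rfl
      have hu := (X.mem_basicOpen c y (X.basicOpen_le c hy)).1 hy
      rw [hc] at hu
      exact ha hu
    have h1 : F.presheaf.germ (X.basicOpen c) y hy (F.presheaf.map (homOfLE (X.basicOpen_le c)).op t) = 0 := by
      rw [F.presheaf.germ_res_apply, F.presheaf.germ_res_apply]
      exact hs y hyx
    obtain ⟨V, hyV, i, j, he⟩ := F.presheaf.germ_eq y hy hy _ 0 (h1.trans (map_zero _).symm)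
    exact ⟨V, i, hyV, he.trans (map_zero _)⟩
  obtain ⟨N, hN⟩ := QCoh.exists_pow_smul_eq_zero hF.1 hU c t ht
  have h2 := congrArg (F.presheaf.germ U x hxU) hN
  rw [QCoh.germ_smul', map_pow, hc, map_zero] at h2
  have htm : F.presheaf.germ U x hxU t = m := (F.presheaf.germ_res_apply _ x hxU s).trans hsm
  rw [htm] at h2
  let g : F.presheaf.stalk x →ₗ[X.presheaf.stalk x] E.presheaf.stalk x := ((DerSch.stalkFunctor X x).map ι).hom
  have hg : Function.Injective g := CurveCohLib.stalk_injective ι x
  haveI := htf x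
  have h3 := congrArg g h2
  rw [map_smul, map_zero] at h3
  refine hg (Eq.trans ?_ (map_zero g).symm)
  exact ((isRegular_iff_mem_nonZeroDivisors.2 hreg).pow N).isSMulRegular (M := E.presheaf.stalk x) |>.right_eq_zero_of_smul h3

variable {k : Type u} [Field k] [X.Over (Spec (CommRingCat.of k))] [IsProper (X ↘ Spec (CommRingCat.of k))]
  {L : X.Modules}

theorem mult_eq (F : X.Modules) : DecSh.mult k X L F = HilbPoly.mult k L 1 F := rfl

theorem dim_le_one (hdim : topologicalKrullDim X = 1) (F : X.Modules) :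
    topologicalKrullDim ↥(CohB1.support F) ≤ ((1 : ℕ) : WithBot ℕ∞) := by
  refine le_trans (topologicalKrullDim_subspace_le X _) ?_
  rw [hdim]; rfl

theorem one_le_mult [AlgebraicGeometry.IsReduced X] (hdim : topologicalKrullDim X = 1)
    (hpure : ∀ x : X, ¬ IsOpen ({x} : Set X)) (hL : CohB1.IsAmple L) {E : X.Modules}
    (htf : TorSh.IsTorsionFree E) {F : X.Modules} (ι : F ⟶ E) [Mono ι] (hF : Coh.IsCoh F) (h0 : ¬ IsZero F) :
    1 ≤ DecSh.mult k X L F := by
  haveI : IsNoetherian X := CurveCohLib.isNoetherian_of_proper (k := k)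
  obtain ⟨e, he, hd⟩ := HilbPoly.exists_dim_eq (k := k) (dim_le_one hdim F) h0
  rcases Nat.le_one_iff_eq_zero_or_eq_one.1 he with rfl | rfl
  · exfalso
    refine h0 (isZero_of_closedSupport hpure htf ι hF fun x hx => ?_)
    have hS : IsClosed (CohB1.support F) := QCoh.isClosed_support_of_isFT hF.1 hF.2
    haveI : NoetherianSpace ↥(CohB1.support F) := Topology.IsInducing.subtypeVal.noetherianSpace
    obtain ⟨-, hd'⟩ := H23.TopDim.finite_discrete_of_dim_le_zero (X := ↥(CohB1.support F)) hd.le
    have := hS.isClosedMap_subtype_val _ (isClosed_discrete ({⟨x, hx⟩} : Set ↥(CohB1.support F)))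
    simpa using this
  · rw [mult_eq]
    exact (HilbPoly.mult_nonneg_and_pos k hL 1 F hF (dim_le_one hdim F)).2 hd

theorem mult_le (hdim : topologicalKrullDim X = 1) (hL : CohB1.IsAmple L) {E F : X.Modules} (ι : F ⟶ E) [Mono ι]
    (hF : Coh.IsCoh F) (hE : Coh.IsCoh E) : DecSh.mult k X L F ≤ DecSh.mult k X L E := by
  haveI : IsNoetherian X := CurveCohLib.isNoetherian_of_proper (k := k)
  have hQ := QCoh.isCoh_cokernel hF.1 hE ι
  have hS : (ShortComplex.mk ι (cokernel.π ι) (cokernel.condition ι)).ShortExact :=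
    .mk' (ShortComplex.exact_of_g_is_cokernel _ (cokernelIsCokernel ι)) inferInstance inferInstance
  have h1 := (HilbPoly.additive_lead (HilbPoly.additive_euler k) hL.1 1).add _ hS hF hE hQ
  have h2 := (HilbPoly.mult_nonneg_and_pos k hL 1 (cokernel ι) hQ (dim_le_one hdim _)).1
  rw [mult_eq, mult_eq]
  change HilbPoly.mult k L 1 E = HilbPoly.mult k L 1 F + HilbPoly.mult k L 1 (cokernel ι) at h1
  omega

end Groth.Agent.DecShLib
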