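import Groth.Agent.DecShLib.SectMain
import Groth.Agent.Lib.CurveTensor
import Groth.Agent.H23.PullPush

/-!
# The sectional inequality for semistable parabolic tensor fields
-/

set_option autoImplicit false
set_option linter.style.haveILetI false
set_option linter.unusedSectionVars false
set_option backward.isDefEq.respectTransparency false
set_option backward.isDefEq.respectTransparency.types false
set_option maxHeartbeats 1600000

universe u

open CategoryTheory CategoryTheory.Limits AlgebraicGeometry TopologicalSpace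

noncomputable section

namespace Groth.Agent.DecShLib

open Groth.Agent

variable {X : Scheme.{u}} (k : Type u) [Field k] [X.Over (Spec (CommRingCat.of k))]
  [IsProper (X ↘ Spec (CommRingCat.of k))] {L : X.Modules}

open Groth.Agent.H23 Groth.Agent.H23.PicMul in
attribute [local instance] PicMul.clMonoid in
include k in
/-- The multiplicity of a bundle of rank `r` is `r` times that of the structure sheaf. -/
theorem mult_finLocFree [AlgebraicGeometry.IsReduced X] [Infinite k] (hdim : topologicalKrullDim X = 1)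
    (hpure : ∀ x : X, ¬ IsOpen ({x} : Set X)) (hL : CohB1.IsAmple L) {E : X.Modules} {r : ℕ}
    (hE : FlatMod.IsFinLocFreeOfRank r E) :
    DecSh.mult k X L E = r * DecSh.mult k X L (Coh.structureModule X) := by
  haveI := CurveCohLib.isNoetherian_of_proper (k := k) (X := X)
  haveI : X.IsSeparated := AmpleVan.isSeparated_of_proper (A := k)
  obtain ⟨p, hp, κ, _, σ, -, -, hcov⟩ := AmpleX.exists_cover_genLocus hL
  let N := CohB1.tensorPow L p
  have hN : PicF.IsInvertible N := InvX.isInvertible_tensorPow hL.1 p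
  have hEf : FlatMod.IsFinLocFree E := fun y => let ⟨U, hy, e⟩ := hE y; ⟨U, r, hy, e⟩
  have hEc : Coh.IsCoh E := QCoh.isCoh_iff_isFP.2 (QCoh.isFP_of_isFinLocFree hEf)
  have hOc : Coh.IsCoh (Coh.structureModule X) := CurveDeg.isCoh_of_isInvertible InvX.isInvertible_structureModule
  have hOf : FlatMod.IsFinLocFree (Coh.structureModule X) :=
    H23.PullPush.isFinLocFree_of_isInvertible InvX.isInvertible_structureModule
  have hnp : NoPt (Coh.structureModule X) := fun K ι hι hK hKcl =>
    haveI := hι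
    isZero_of_closedSupport hpure (isTorsionFree_of_finLocFree hOf) ι hK hKcl
  obtain ⟨s, hs⟩ := exists_avoid_section k hN σ hcov (genericPoints.finite (α := X)
    NoetherianSpace.finite_irreducibleComponents)
  obtain ⟨hmono, hcl⟩ := mono_mulSec hdim hN hOc hnp s hs
  haveI := hmono
  let f := AmpleVan.mulSec (InvX.one s) (Coh.structureModule X)
  have hS : (ShortComplex.mk f (cokernel.π f) (cokernel.condition f)).ShortExact :=
    .mk' (ShortComplex.exact_of_g_is_cokernel _ (cokernelIsCokernel _)) hmono inferInstance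
  have hC := QCoh.isCoh_cokernel hOc.1 (isCoh_tw hN hOc) f
  have hS' := CurveTensor.shortExact_tensor hEf f (cokernel.π f) (cokernel.condition f) hS
  have h1 := euler_add' k hS hOc (isCoh_tw hN hOc) hC
  have h2 := euler_add' k hS' (CurveTensor.isCoh_tensor hEf hOc)
    (CurveTensor.isCoh_tensor hEf (isCoh_tw hN hOc)) (CurveTensor.isCoh_tensor hEf hC)
  have h3 := CurveTensor.euler_tensor_torsion (k := k) hE hC hcl
  have e1 : Curv2.euler k X ((AmpleVan.tw N).obj (Coh.structureModule X)) =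
      Curv2.euler k X (ShStab.twist X L (Coh.structureModule X) p) := rfl
  have e2 : Curv2.euler k X ((DCoh.tensorBi.obj E).obj (Coh.structureModule X)) = Curv2.euler k X E :=
    (HilbPoly.additive_euler k).iso _ _ ⟨AmpleVan.twUnit.app E⟩
  have e3 : Curv2.euler k X ((DCoh.tensorBi.obj E).obj ((AmpleVan.tw N).obj (Coh.structureModule X))) =
      Curv2.euler k X (ShStab.twist X L E p) :=
    (HilbPoly.additive_euler k).iso _ _ (cl_eq_iff.1 (by
      show PicF.cl (CohB1.tensorMod E (CohB1.tensorMod (Coh.structureModule X) N)) = PicF.cl (CohB1.tensorMod E N)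
      rw [cl_tensor, cl_tensor, cl_tensor,
        show PicF.cl (Coh.structureModule X) = 1 from rfl, one_mul]))
  obtain ⟨t1, -⟩ := euler_twist_linear (k := k) hdim hL hOc p
  obtain ⟨t2, -⟩ := euler_twist_linear (k := k) hdim hL hEc p
  have key : (p : ℤ) * DecSh.mult k X L E = (p : ℤ) * ((r : ℤ) * DecSh.mult k X L (Coh.structureModule X)) := by
    change Curv2.euler k X ((AmpleVan.tw N).obj (Coh.structureModule X)) = _ at h1
    change Curv2.euler k X ((DCoh.tensorBi.obj E).obj ((AmpleVan.tw N).obj (Coh.structureModule X))) = _ at h2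
    rw [e1, t1] at h1
    rw [e3, t2] at h2
    have h1' : (p : ℤ) * DecSh.mult k X L (Coh.structureModule X) = Curv2.euler k X (cokernel f) := by
      simp only [] at h1
      linarith
    have h2' : (p : ℤ) * DecSh.mult k X L E = Curv2.euler k X ((DCoh.tensorBi.obj E).obj (cokernel f)) := by
      simp only [] at h2
      rw [e2] at h2
      linarith
    rw [h2', h3, ← h1']
    ring
  exact mul_left_cancel₀ (by omega) key

theorem par_numeric {α χ αG e c cE h m K rν δ a : ℚ} (hb : α * h - αG * (e + m * α) ≤ -K)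
    (hα : 0 ≤ α) (h2 : αG ≤ α) (h0 : 0 ≤ αG) (hc : 0 ≤ c) (hcE0 : 0 ≤ cE) (hcE : cE ≤ rν)
    (hK : δ * a * α + α * rν + 1 ≤ K) :
    α * (h - (χ - (χ - c))) - αG * (e + m * α - (e - (e - cE))) ≤ -(δ * a * α + 1) := by
  have h3 := mul_nonneg hα hc
  have h4 := mul_le_mul h2 hcE hcE0 hα
  linarith

include k in
/-- The sectional inequality for semistable parabolic tensor fields. -/
theorem exists_par_sect [IsAlgClosed k] [CharZero k] [Smooth (X ↘ Spec (CommRingCat.of k))]
    (hdim : topologicalKrullDim X = 1) (hpure : ∀ x : X, ¬ IsOpen ({x} : Set X)) (hL : CohB1.IsAmple L)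
    {ν : ℕ} (I : Fin ν → X.IdealSheafData) {κ : Fin ν → ℚ} (hκ : ∀ i, 0 < κ i ∧ κ i < 1) {δ : ℚ} (hδ : 0 < δ)
    (r a b : ℕ) (e : ℤ) :
    ∃ n₁ : ℕ, ∀ n : ℕ, n₁ < n → ∀ (E : X.Modules), FlatMod.IsFinLocFreeOfRank r E → Curv2.euler k X E = e →
      ∀ (K : ∀ i, Submodule k (ParSh.fibD X (I i) E)),
        (∀ i, Module.finrank k (ParSh.fibD X (I i) E ⧸ K i) = r) →
        ∀ (D : X.Modules) (T : DecSh.TF E a b D), T.IsParSemistable k I K κ L δ →
          ∀ 𝓕 : DecSh.WFilt E, (∀ i, Coh.IsCoh ((𝓕.piece i : Subobject E) : X.Modules)) →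
            (∑ i, 𝓕.wt i *
              ((DecSh.mult k X L E : ℚ) *
                  ((Module.finrank k (Coh.HH X (ShStab.twist X L ((𝓕.piece i : Subobject E) : X.Modules) n) 0) : ℚ) -
                    ((Curv2.euler k X ((𝓕.piece i : Subobject E) : X.Modules) : ℚ) -
                      DecSh.parChi k I K κ (𝓕.piece i).arrow)) -
                (DecSh.mult k X L ((𝓕.piece i : Subobject E) : X.Modules) : ℚ) *
                  ((Curv2.euler k X (ShStab.twist X L E n) : ℚ) -
                    ((Curv2.euler k X E : ℚ) - DecSh.parChi k I K κ (𝟙 E))))) +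
              δ * T.mu k L 𝓕 ≤ 0 := by
  haveI := GrpSchLib.isReduced_of_smooth_field (X ↘ Spec (CommRingCat.of k))
  haveI : IsNoetherian X := CurveCohLib.isNoetherian_of_proper (k := k)
  obtain ⟨α, hαdef⟩ : ∃ α : ℤ, α = r * DecSh.mult k X L (Coh.structureModule X) := ⟨_, rfl⟩
  obtain ⟨N, hN⟩ := exists_dichotomy k hdim hpure hL α e (|(e : ℚ)| + δ * a + (r : ℚ) * ν)
    (δ * a * |(α : ℚ)| + |(α : ℚ)| * ((r : ℚ) * ν) + 1)
  refine ⟨N, fun n hn E hE he K hK D T hT 𝓕 hok => ?_⟩
  have hEf : FlatMod.IsFinLocFree E := fun y => let ⟨U, hy, e⟩ := hE y; ⟨U, r, hy, e⟩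
  have hEc : Coh.IsCoh E := QCoh.isCoh_iff_isFP.2 (QCoh.isFP_of_isFinLocFree hEf)
  have htf := isTorsionFree_of_finLocFree hEf
  have hα : DecSh.mult k X L E = α := (mult_finLocFree k hdim hpure hL hE).trans hαdef.symm
  have h1 : ∀ i, 1 ≤ DecSh.mult k X L ((𝓕.piece i : Subobject E) : X.Modules) := fun i =>
    one_le_mult hdim hpure hL htf (𝓕.piece i).arrow (hok i) (𝓕.piece_nonzero i)
  have h2 : ∀ i, DecSh.mult k X L ((𝓕.piece i : Subobject E) : X.Modules) ≤ DecSh.mult k X L E := fun i =>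
    mult_le hdim hL (𝓕.piece i).arrow (hok i) hEc
  have hα1 : (1 : ℚ) ≤ α := by
    exact_mod_cast hα ▸ (h1 ⟨0, 𝓕.t_pos⟩).trans (h2 ⟨0, 𝓕.t_pos⟩)
  have hr : 0 < r := by
    by_contra h0
    have hr0 : r = 0 := by omega
    rw [hr0] at hαdef
    simp only [Nat.cast_zero, zero_mul] at hαdef
    rw [hαdef] at hα1
    norm_num at hα1
  have hq : ∀ (G : X.Modules) (j : G ⟶ E),
      0 ≤ ∑ i, κ i * (Module.finrank k ((LinearMap.range (ParSh.fibDMap k X (I i) j)).map (K i).mkQ) : ℚ) ∧
        ∑ i, κ i * (Module.finrank k ((LinearMap.range (ParSh.fibDMap k X (I i) j)).map (K i).mkQ) : ℚ) ≤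
          (r : ℚ) * (ν : ℚ) := fun G j => by
    refine ⟨Finset.sum_nonneg fun i _ => mul_nonneg (hκ i).1.le (Nat.cast_nonneg _), ?_⟩
    refine le_trans (Finset.sum_le_sum (g := fun _ => (r : ℚ)) fun i _ => ?_) (by simp; ring_nf; rfl)
    haveI : Module.Finite k (ParSh.fibD X (I i) E ⧸ K i) := Module.finite_of_finrank_pos (by rw [hK i]; exact hr)
    have hle : (Module.finrank k ((LinearMap.range (ParSh.fibDMap k X (I i) j)).map (K i).mkQ) : ℚ) ≤ r := by
      exact_mod_cast (Submodule.finrank_le _).trans_eq (hK i)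
    exact (mul_le_of_le_one_left (Nat.cast_nonneg _) (hκ i).2.le).trans hle
  have hαQ : (0 : ℚ) ≤ α := by linarith
  have hrν : (0 : ℚ) ≤ (r : ℚ) * ν := by positivity
  have hδa : 0 ≤ δ * (a : ℚ) := by positivity
  have hsub : ∀ (G : X.Modules) (ι : G ⟶ E), Mono ι → Coh.IsCoh G → ¬ IsZero G →
      (Curv2.euler k X G : ℚ) ≤ |(e : ℚ)| + δ * a + (r : ℚ) * ν := fun G ι hι hG hG0 => by
    haveI := hι
    by_cases hiso : IsIso ι
    · haveI := hiso
      have h : Curv2.euler k X G = Curv2.euler k X E := (HilbPoly.additive_euler k).iso _ _ ⟨asIso ι⟩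
      rw [h, he]
      linarith [le_abs_self (e : ℚ)]
    obtain ⟨g1, g2, g3⟩ := par_sub_le k hdim hpure hL hE hK hκ T hδ hT G ι hG hG0 hiso
    rw [hα, he] at g3
    rw [hα] at g2
    refine le_of_mul_le_mul_left ?_ (show (0 : ℚ) < α by linarith)
    have g4 : (DecSh.mult k X L G : ℚ) * (e : ℚ) ≤ (α : ℚ) * |(e : ℚ)| :=
      (mul_le_mul_of_nonneg_left (le_abs_self _) (by exact_mod_cast le_trans zero_le_one g1)).trans
        (mul_le_mul_of_nonneg_right (by exact_mod_cast g2) (abs_nonneg _))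
    linarith
  have hem : (Curv2.euler k X (ShStab.twist X L E n) : ℚ) = (e : ℚ) + (n : ℚ) * α := by
    rw [euler_twist_cast k hdim hL hEc, he, hα]
  refine (deltaSS_sect hT hδ.le 𝓕 hok h1 h2 _ (δ * a * α + 1)
    (by rw [hα]; linarith) fun i => ?_).1
  rcases hN E hEc htf hα he hsub n hn.le _ (𝓕.piece i).arrow inferInstance (hok i) (𝓕.piece_nonzero i) with hv | hb
  · left
    have h4 : (Module.finrank k (Coh.HH X (ShStab.twist X L ((𝓕.piece i : Subobject E) : X.Modules) n) 0) : ℚ) =
        (Curv2.euler k X ((𝓕.piece i : Subobject E) : X.Modules) : ℚ) +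
          (n : ℚ) * DecSh.mult k X L ((𝓕.piece i : Subobject E) : X.Modules) := by
      rw [← euler_twist_cast k hdim hL (hok i)]
      exact_mod_cast euler_eq_h0 k hdim (isCoh_twist k hL.1 (hok i) n) hv
    rw [h4, hem, hα, he]
    ring
  · right
    rw [hem] at hb
    rw [hem, hα, he, DecSh.parChi, DecSh.parChi, he]
    obtain ⟨c1, -⟩ := hq _ (𝓕.piece i).arrow
    obtain ⟨c2, c3⟩ := hq _ (𝟙 E)
    refine par_numeric hb hαQ ?_ (by exact_mod_cast le_trans zero_le_one (h1 i)) c1 c2 c3 ?_
    · exact_mod_cast hα ▸ h2 i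
    · rw [abs_of_nonneg hαQ]

end Groth.Agent.DecShLib
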