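import Groth.Agent.DecShLib.SectMain
import Groth.Agent.CycLib.StalkSES
import Groth.Agent.Pic13Lib.Bdd.Gen

/-!
# Bounded families of saturated subsheaves
-/

set_option autoImplicit false
set_option linter.style.haveILetI false
set_option linter.unusedSectionVars false
set_option backward.isDefEq.respectTransparency false
set_option backward.isDefEq.respectTransparency.types false
set_option maxHeartbeats 1600000

universe u

open CategoryTheory CategoryTheory.Limits AlgebraicGeometry

noncomputable section

namespace Groth.Agent.DecShLib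

open Groth.Agent

theorem stalkLin_injective {X : Scheme.{u}} {M N : X.Modules} (φ : M ⟶ N) [Mono φ] (x : X) :
    Function.Injective (CycLib.stalkLin φ x) := by
  refine (injective_iff_map_eq_zero _).2 fun t ht => ?_
  obtain ⟨U, hxU, n, rfl⟩ := M.presheaf.exists_germ_eq t
  replace ht : N.presheaf.germ U x hxU (φ.app U n) = 0 := (CycLib.stalkAdd_germ φ x hxU n).symm.trans ht
  obtain ⟨W, hxW, i, j, he⟩ := N.presheaf.germ_eq x hxU hxU _ 0 (ht.trans (map_zero _).symm)
  rw [map_zero] at he
  rw [← TopCat.Presheaf.germ_res_apply (F := M.presheaf) i x hxW n]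
  have h0 : M.presheaf.map i.op n = 0 := by
    refine QCoh.app_injective φ W ?_
    rw [map_zero, ← he]
    exact ConcreteCategory.congr_hom (φ.mapPresheaf.naturality i.op) n
  rw [h0, map_zero]

theorem isTorsionFree_of_mono {X : Scheme.{u}} {M N : X.Modules} (φ : M ⟶ N) [Mono φ]
    (h : TorSh.IsTorsionFree N) : TorSh.IsTorsionFree M := fun x =>
  haveI := h x
  (stalkLin_injective φ x).moduleIsTorsionFree _ (fun r m => map_smul (CycLib.stalkLin φ x) r m)

variable {X : Scheme.{u}} (k : Type u) [Field k] [X.Over (Spec (CommRingCat.of k))]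
  [IsProper (X ↘ Spec (CommRingCat.of k))] {L : X.Modules}

include k in
/-- Finitely many pairs of invariants give a bounded family. -/
theorem isBounded_sub_bound_finset [AlgebraicGeometry.IsReduced X] [Infinite k] (hdim : topologicalKrullDim X = 1)
    (hpure : ∀ x : X, ¬ IsOpen ({x} : Set X)) (hL : CohB1.IsAmple L) (s : Finset (ℤ × ℤ)) (C : ℚ) :
    Pic13.IsBounded k X (fun F => Coh.IsCoh F ∧ TorSh.IsTorsionFree F ∧
      (DecSh.mult k X L F, Curv2.euler k X F) ∈ s ∧ ∀ (G : X.Modules) (ι : G ⟶ F), Mono ι → Coh.IsCoh G →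
        ¬ IsZero G → (Curv2.euler k X G : ℚ) ≤ C) := by
  classical
  induction s using Finset.induction_on with
  | empty => exact Pic13Lib.Bdd.isBounded_empty fun F h => Finset.notMem_empty _ h.2.2.1
  | insert p s _ ih =>
    refine Pic13Lib.isBounded_mono (fun F h => ?_)
      (Pic13Lib.Bdd.isBounded_union (isBounded_of_sub_bound k hdim hpure hL p.1 p.2 C) ih)
    obtain ⟨hc, htf, hmem, hsub⟩ := h
    rcases Finset.mem_insert.1 hmem with he | hs
    · exact Or.inl ⟨hc, htf, congrArg Prod.fst he, congrArg Prod.snd he, hsub⟩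
    · exact Or.inr ⟨hc, htf, hs, hsub⟩

end Groth.Agent.DecShLib
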