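import Groth.Agent.DecShLib.Sectional

/-!
# The quotient sectional condition forces vanishing for all quotients
-/

set_option autoImplicit false
set_option linter.style.haveILetI false
set_option linter.unusedSectionVars false
set_option backward.isDefEq.respectTransparency false
set_option backward.isDefEq.respectTransparency.types false
set_option maxHeartbeats 1600000

universe u

open CategoryTheory CategoryTheory.Limits AlgebraicGeometry TopologicalSpace Opposite

noncomputable section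

namespace Groth.Agent.DecShLib

open Groth.Agent

theorem isIso_desc_kernelSubobject {C : Type*} [Category C] [Abelian C] {A B : C} (π : A ⟶ B) [Epi π] :
    Nonempty (cokernel (kernelSubobject π).arrow ≅ B) :=
  haveI : IsIso (Abelian.factorThruCoimage π) := inferInstance
  ⟨cokernelIsoOfEq (kernelSubobject_arrow π).symm ≪≫ cokernelEpiComp _ _ ≪≫
    asIso (Abelian.factorThruCoimage π)⟩

variable {X : Scheme.{u}} (k : Type u) [Field k] [X.Over (Spec (CommRingCat.of k))]
  [IsProper (X ↘ Spec (CommRingCat.of k))] {L : X.Modules}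

include k in
/-- Modules of multiplicity zero on a curve are supported at closed points. -/
theorem closedPts_of_mult_eq_zero (hdim : topologicalKrullDim X = 1) (hL : CohB1.IsAmple L) {F : X.Modules}
    (hF : Coh.IsCoh F) (h0 : DecSh.mult k X L F = 0) : ∀ x ∈ CohB1.support F, IsClosed ({x} : Set X) := by
  intro x hx
  haveI : IsNoetherian X := CurveCohLib.isNoetherian_of_proper (k := k)
  have hne : ¬ IsZero F := fun h => hx (by
    exact AddCommGrpCat.subsingleton_of_isZero
      ((TopCat.Presheaf.stalkFunctor Ab.{u} x).map_isZero ((Scheme.Modules.toPresheaf X).map_isZero h)))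
  obtain ⟨e, he, hd⟩ := HilbPoly.exists_dim_eq (k := k) (dim_le_one hdim F) hne
  rcases Nat.le_one_iff_eq_zero_or_eq_one.1 he with rfl | rfl
  · have hS : IsClosed (CohB1.support F) := QCoh.isClosed_support_of_isFT hF.1 hF.2
    haveI : NoetherianSpace ↥(CohB1.support F) := Topology.IsInducing.subtypeVal.noetherianSpace
    obtain ⟨-, hd'⟩ := H23.TopDim.finite_discrete_of_dim_le_zero (X := ↥(CohB1.support F)) hd.le
    have := hS.isClosedMap_subtype_val _ (isClosed_discrete ({⟨x, hx⟩} : Set ↥(CohB1.support F)))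
    simpa using this
  · have := (HilbPoly.mult_nonneg_and_pos k hL 1 F hF (dim_le_one hdim F)).2 hd
    rw [← mult_eq] at this
    omega

include k in
theorem mult_add (hL : PicF.IsInvertible L) {F E : X.Modules} (ι : F ⟶ E) [Mono ι] (hF : Coh.IsCoh F)
    (hE : Coh.IsCoh E) : DecSh.mult k X L E = DecSh.mult k X L F + DecSh.mult k X L (cokernel ι) := by
  haveI : IsNoetherian X := CurveCohLib.isNoetherian_of_proper (k := k)
  have hQ := QCoh.isCoh_cokernel hF.1 hE ι
  have hS : (ShortComplex.mk ι (cokernel.π ι) (cokernel.condition ι)).ShortExact :=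
    .mk' (ShortComplex.exact_of_g_is_cokernel _ (cokernelIsCokernel ι)) inferInstance inferInstance
  have h1 := (HilbPoly.additive_lead (HilbPoly.additive_euler k) hL 1).add _ hS hF hE hQ
  rw [mult_eq, mult_eq, mult_eq]
  exact h1

include k in
/-- A maximal subsheaf whose quotient keeps `h¹` leaves no room for subsheaves without `h¹`. -/
theorem eq_zero_of_maximal (hdim : topologicalKrullDim X = 1) (hL : CohB1.IsAmple L) {E : X.Modules}
    (hE : Coh.IsCoh E) (m : ℕ) (F : Subobject E) (hF : Coh.IsCoh (F : X.Modules))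
    (hbad : ¬ Subsingleton (Coh.HH X (ShStab.twist X L (cokernel F.arrow) m) 1))
    (hmax : ∀ K : Subobject E, Coh.IsCoh (K : X.Modules) →
      ¬ Subsingleton (Coh.HH X (ShStab.twist X L (cokernel K.arrow) m) 1) → F ≤ K → K = F)
    {G' : X.Modules} (ι : G' ⟶ ShStab.twist X L (cokernel F.arrow) m) [Mono ι] (hG' : Coh.IsCoh G')
    (h1 : Subsingleton (Coh.HH X G' 1)) : IsZero G' := by
  haveI : IsNoetherian X := CurveCohLib.isNoetherian_of_proper (k := k)
  obtain ⟨G, hG, ⟨φ⟩, -, -⟩ := exists_untwist k hdim hL hG' m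
  have hL' := InvX.isInvertible_tensorPow hL.1 m
  haveI := AmpleVan.isEquivalence_tw hL'
  let A := AmpleVan.tw (CohB1.tensorPow L m)
  let g : G ⟶ cokernel F.arrow := A.preimage (φ.hom ≫ ι)
  haveI : Mono (A.map g) := by rw [Functor.map_preimage]; exact mono_comp _ _
  haveI : Mono g := A.mono_of_mono_map inferInstance
  have hQ := QCoh.isCoh_cokernel hF.1 hE F.arrow
  have hR := QCoh.isCoh_cokernel hG.1 hQ g
  let S := ShortComplex.mk g (cokernel.π g) (cokernel.condition g)
  have hS : S.ShortExact :=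
    .mk' (ShortComplex.exact_of_g_is_cokernel _ (cokernelIsCokernel g)) inferInstance inferInstance
  have hbadR : ¬ Subsingleton (Coh.HH X (ShStab.twist X L (cokernel g) m) 1) := fun h3 =>
    hbad (injective_g_one k (shortExact_tw hL' hS) (QCoh.subsingleton_HH_of_iso φ.symm 1 h1) h3)
  let π : E ⟶ cokernel g := cokernel.π F.arrow ≫ cokernel.π g
  haveI : Epi π := epi_comp _ _
  let K := kernelSubobject π
  have hK : Coh.IsCoh (K : X.Modules) :=
    HilbPoly.isCoh_of_iso (kernelSubobjectIso π).symm (QCoh.isCoh_kernel hE hR π)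
  obtain ⟨eK⟩ := isIso_desc_kernelSubobject π
  have hle : F ≤ K := le_kernelSubobject π _ (by simp [π])
  have hbadK : ¬ Subsingleton (Coh.HH X (ShStab.twist X L (cokernel K.arrow) m) 1) := fun h =>
    hbadR (QCoh.subsingleton_HH_of_iso (A.mapIso eK) 1 h)
  have heq := hmax K hK hbadK hle
  have hk : kernel.ι π ≫ cokernel.π F.arrow = 0 := by
    rw [← kernelSubobject_arrow' π, ← Subobject.ofLE_arrow (le_of_eq heq), Category.assoc, Category.assoc,
      cokernel.condition, comp_zero, comp_zero]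
  let h := Abelian.epiDesc π (cokernel.π F.arrow) hk
  have h' : cokernel.π g ≫ h = 𝟙 _ := by
    rw [← cancel_epi (cokernel.π F.arrow), Category.comp_id, ← Category.assoc]
    exact Abelian.comp_epiDesc π (cokernel.π F.arrow) hk
  have hg0 : g = 0 := by
    rw [← Category.comp_id g, ← h', ← Category.assoc, cokernel.condition, zero_comp]
  have hz : IsZero G := by rw [IsZero.iff_id_eq_zero, ← cancel_mono g]; simp [hg0]
  exact (A.map_isZero hz).of_iso φ.symm

include k in
/-- Such a quotient has few sections. -/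
theorem exists_few_sections [Infinite k] [AlgebraicGeometry.IsReduced X] (hdim : topologicalKrullDim X = 1)
    (hL : CohB1.IsAmple L) :
    ∃ c : ℕ, ∀ (E : X.Modules), Coh.IsCoh E → ∀ (m : ℕ) (F : Subobject E), Coh.IsCoh (F : X.Modules) →
      ¬ Subsingleton (Coh.HH X (ShStab.twist X L (cokernel F.arrow) m) 1) →
      (∀ K : Subobject E, Coh.IsCoh (K : X.Modules) →
        ¬ Subsingleton (Coh.HH X (ShStab.twist X L (cokernel K.arrow) m) 1) → F ≤ K → K = F) →
      1 ≤ DecSh.mult k X L (cokernel F.arrow) ∧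
        (Module.finrank k (Coh.HH X (ShStab.twist X L (cokernel F.arrow) m) 0) : ℤ) ≤
          (c : ℤ) * DecSh.mult k X L (cokernel F.arrow) := by
  haveI : IsNoetherian X := CurveCohLib.isNoetherian_of_proper (k := k)
  haveI : X.IsSeparated := AmpleVan.isSeparated_of_proper (A := k)
  obtain ⟨p, hp, hdrop⟩ := exists_drop k hdim hL
  have hOc : Coh.IsCoh (Coh.structureModule X) := CurveDeg.isCoh_of_isInvertible InvX.isInvertible_structureModule
  obtain ⟨t₀, ht₀⟩ := AmpleVan.exists_vanishing (A := k) hL hOc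
  refine ⟨p * (t₀ + 1), fun E hE m F hF hbad hmax => ?_⟩
  have hzero : ∀ {G' : X.Modules} (ι : G' ⟶ ShStab.twist X L (cokernel F.arrow) m), Mono ι → Coh.IsCoh G' →
      Subsingleton (Coh.HH X G' 1) → IsZero G' := fun ι hι hG' h1 =>
    eq_zero_of_maximal k hdim hL hE m F hF hbad hmax ι hG' h1
  have hQ := QCoh.isCoh_cokernel hF.1 hE F.arrow
  have hQm := isCoh_twist k hL.1 hQ m
  obtain ⟨Q₀, hQ₀, ⟨φ⟩, hα₀, he₀⟩ := exists_untwist k hdim hL hQm (p * (t₀ + 1))
  have ht : t₀ ≤ p * (t₀ + 1) := le_trans (Nat.le_succ _) (Nat.le_mul_of_pos_left _ hp)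
  have hLt := InvX.isInvertible_tensorPow hL.1 (p * (t₀ + 1))
  haveI := AmpleVan.isEquivalence_tw hLt
  have hnp : NoPt Q₀ := fun K' ι hι hK hKcl => by
    haveI := hι
    refine eq_zero_of_isZero_tw hLt (hzero ((AmpleVan.tw (CohB1.tensorPow L (p * (t₀ + 1)))).map ι ≫ φ.hom)
      (mono_comp _ _) (isCoh_twist k hL.1 hK _) (subsingleton_HH_closedPts k (isCoh_twist k hL.1 hK _)
      fun x hx => hKcl x (HilbPoly.support_tensor_subset _ _ hx)))
  have hh0 : Module.finrank k (Coh.HH X Q₀ 0) = 0 := by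
    by_contra hne
    obtain ⟨S, ι, hS, hS1, hS2, hS3, hι, hI0⟩ := exists_image_section k hL.1 hQ₀ φ hne
    refine hI0 (eq_zero_of_isZero_tw hLt (hzero ι hι (isCoh_twist k hL.1 hS3 _) ?_))
    refine surjective_g_one k hdim (shortExact_tw hLt hS) (isCoh_twist k hL.1 hS1 _) ?_
    show Subsingleton (Coh.HH X ((AmpleVan.tw (CohB1.tensorPow L (p * (t₀ + 1)))).obj S.X₂) 1)
    rw [hS2]
    exact ht₀ _ ht 0
  have hd := hdrop Q₀ hQ₀ hnp (t₀ + 1)
  have h00 := h0_eq k hdim hQ₀
  rw [hh0] at h00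
  have hQm0 := h0_eq k hdim hQm
  rw [(CurveCohLib.hhEquiv (k := k) φ 1).finrank_eq] at hd
  rw [(euler_twist_linear (k := k) hdim hL hQ m).2] at he₀
  have hne1 : Module.finrank k (Coh.HH X (ShStab.twist X L (cokernel F.arrow) m) 1) ≠ 0 := fun h => hbad (by
    haveI := S0002.result k X _ hQm 1
    exact Module.finrank_zero_iff.1 h)
  have hd' : (Module.finrank k (Coh.HH X (ShStab.twist X L (cokernel F.arrow) m) 1) : ℤ) + 1 ≤
      Module.finrank k (Coh.HH X Q₀ 1) := by omega
  have hαQ0 : 0 ≤ DecSh.mult k X L (cokernel F.arrow) :=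
    (HilbPoly.mult_nonneg_and_pos k hL 1 _ hQ (dim_le_one hdim _)).1
  refine ⟨?_, ?_⟩
  · by_contra hlt
    exact hbad (subsingleton_HH_closedPts k hQm fun x hx =>
      closedPts_of_mult_eq_zero k hdim hL hQ (by omega) x (HilbPoly.support_tensor_subset _ _ hx))
  · simp only [Nat.cast_zero] at h00
    linarith

theorem numeric_zero {e α m c a δ N : ℚ} (hN : |e| + α * c + δ * a * α < N) (hm : N ≤ m) (hα : 1 ≤ α)
    (ha : 0 ≤ a) (hδ : 0 ≤ δ) (hm0 : 0 ≤ m) (h : e + m * α ≤ c * α) : False := by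
  have h1 := le_mul_of_one_le_right hm0 hα
  have h2 : 0 ≤ δ * a * α := mul_nonneg (mul_nonneg hδ ha) (by linarith)
  linarith [neg_abs_le e]

theorem numeric_single {e α m c a δ N q h μ : ℚ} (hN : |e| + α * c + δ * a * α < N) (hm : N ≤ m) (hα : 1 ≤ α)
    (ha : 0 ≤ a) (hδ : 0 ≤ δ) (hm0 : 0 ≤ m) (hq : 1 ≤ q) (hh : h ≤ c * q) (hμ : -(a * (α - 1)) ≤ μ)
    (hc : q * (e + m * α) - α * h + δ * μ ≤ 0) : False := by
  have h1 := le_mul_of_one_le_right hm0 hα
  have h2 := mul_le_mul_of_nonneg_left hμ hδ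
  have h3 := mul_le_mul_of_nonneg_left hh (show (0 : ℚ) ≤ α by linarith)
  have h5 : δ * a * α < e + m * α - α * c := by linarith [neg_abs_le e]
  have h6 : 0 ≤ δ * a * α := mul_nonneg (mul_nonneg hδ ha) (by linarith)
  have h7 := le_mul_of_one_le_left (show (0:ℚ) ≤ e + m * α - α * c by linarith) hq
  have h8 : 0 ≤ δ * a := mul_nonneg hδ ha
  linarith

include k in
/-- The quotient sectional condition at a large `m` forces `h¹ = 0` for all quotients. -/
theorem exists_quot_vanish [Infinite k] [AlgebraicGeometry.IsReduced X] (hdim : topologicalKrullDim X = 1)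
    (hpure : ∀ x : X, ¬ IsOpen ({x} : Set X)) (hL : CohB1.IsAmple L) {δ : ℚ} (hδ : 0 < δ) (α e : ℤ) (a b : ℕ) :
    ∃ N : ℕ, ∀ m : ℕ, N ≤ m → ∀ E : X.Modules, Coh.IsCoh E → TorSh.IsTorsionFree E →
      DecSh.mult k X L E = α → Curv2.euler k X E = e → ∀ (D : X.Modules) (T : DecSh.TF E a b D),
      (∀ 𝓕 : DecSh.WFilt E, (∀ i, Coh.IsCoh ((𝓕.piece i : Subobject E) : X.Modules)) →
        (∑ i, 𝓕.wt i * ((DecSh.mult k X L (cokernel (𝓕.piece i).arrow) : ℚ) *
            (Curv2.euler k X (ShStab.twist X L E m) : ℚ) -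
          (α : ℚ) * (Module.finrank k (Coh.HH X (ShStab.twist X L (cokernel (𝓕.piece i).arrow) m) 0) : ℚ))) +
          δ * T.mu k L 𝓕 ≤ 0) →
      (∀ F : Subobject E, Coh.IsCoh (F : X.Modules) →
        Subsingleton (Coh.HH X (ShStab.twist X L (cokernel F.arrow) m) 1)) ∧
      Subsingleton (Coh.HH X (ShStab.twist X L E m) 1) := by
  haveI : IsNoetherian X := CurveCohLib.isNoetherian_of_proper (k := k)
  obtain ⟨c, hc⟩ := exists_few_sections k hdim hL
  obtain ⟨N, hN⟩ : ∃ N : ℕ, |(e : ℚ)| + (α : ℚ) * (c : ℚ) + δ * (a : ℚ) * (α : ℚ) < N :=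
    exists_nat_gt _
  refine ⟨N, fun m hm E hE htf hα he D T hcond => ?_⟩
  have hem : (Curv2.euler k X (ShStab.twist X L E m) : ℚ) = (e : ℚ) + (m : ℚ) * α := by
    rw [(euler_twist_linear (k := k) hdim hL hE m).1, he, hα]; push_cast; ring
  have hmN : (N : ℚ) ≤ m := Nat.cast_le.2 hm
  suffices hmain : ∀ F : Subobject E, Coh.IsCoh (F : X.Modules) →
      Subsingleton (Coh.HH X (ShStab.twist X L (cokernel F.arrow) m) 1) by
    refine ⟨hmain, ?_⟩
    have hb : Coh.IsCoh ((kernelSubobject (𝟙 E) : Subobject E) : X.Modules) :=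
      HilbPoly.isCoh_of_iso (kernelSubobjectIso (𝟙 E)).symm (QCoh.isCoh_kernel hE hE (𝟙 E))
    obtain ⟨eK⟩ := isIso_desc_kernelSubobject (𝟙 E)
    exact QCoh.subsingleton_HH_of_iso ((AmpleVan.tw (CohB1.tensorPow L m)).mapIso eK) 1 (hmain _ hb)
  intro F₀ hF₀c
  by_contra hF₀
  obtain ⟨F, ⟨hF, hbad⟩, hmax⟩ := HilbPoly.exists_maximal_coh hE
    (fun K : Subobject E => Coh.IsCoh (K : X.Modules) ∧
      ¬ Subsingleton (Coh.HH X (ShStab.twist X L (cokernel K.arrow) m) 1)) (fun _ h => h.1)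
    ⟨F₀, hF₀c, hF₀⟩
  obtain ⟨hαQ, hfew⟩ := hc E hE m F hF hbad fun K hK hb hle => hmax K ⟨hK, hb⟩ hle
  have hQ := QCoh.isCoh_cokernel hF.1 hE F.arrow
  have hadd : DecSh.mult k X L E = DecSh.mult k X L (F : X.Modules) + DecSh.mult k X L (cokernel F.arrow) :=
    mult_add k hL.1 F.arrow hF hE
  have hαF0 : 0 ≤ DecSh.mult k X L (F : X.Modules) :=
    (HilbPoly.mult_nonneg_and_pos k hL 1 _ hF (dim_le_one hdim _)).1
  have hα1 : (1 : ℚ) ≤ α := by exact_mod_cast (show (1 : ℤ) ≤ α by omega)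
  by_cases hF0 : IsZero (F : X.Modules)
  · have hF00 : F.arrow = 0 := hF0.eq_of_src _ _
    obtain ⟨e0⟩ : Nonempty (cokernel F.arrow ≅ E) := ⟨cokernelIsoOfEq hF00 ≪≫ cokernelZeroIsoTarget⟩
    have e1 : Curv2.euler k X (ShStab.twist X L (cokernel F.arrow) m) = Curv2.euler k X (ShStab.twist X L E m) :=
      (HilbPoly.additive_euler k).iso _ _ ⟨(AmpleVan.tw (CohB1.tensorPow L m)).mapIso e0⟩
    have e2 : DecSh.mult k X L (cokernel F.arrow) = α := (mult_iso k hL.1 e0).trans hα
    have h0 := h0_eq k hdim (isCoh_twist k hL.1 hQ m)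
    rw [e1] at h0
    rw [e2] at hfew
    have : Curv2.euler k X (ShStab.twist X L E m) ≤ (c : ℤ) * α := by omega
    refine numeric_zero hN hmN hα1 (Nat.cast_nonneg a) hδ.le (Nat.cast_nonneg _) ?_
    rw [← hem]
    exact_mod_cast this
  · have hFt : F ≠ ⊤ := fun h => hbad (by
      haveI := (Subobject.isIso_arrow_iff_eq_top F).2 h
      have hz : IsZero (cokernel F.arrow) := isZero_cokernel_of_epi _
      exact Euler.subsingleton_HH_of_isZero ((AmpleVan.tw (CohB1.tensorPow L m)).map_isZero hz) 1)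
    have hc' := hcond (DecSh.WFilt.single F hFt hF0) fun _ => hF
    have hmu := (abs_le.1 (abs_mu_le (DecSh.WFilt.single F hFt hF0) (DecSh.mult k X L E)
      (fun P => DecSh.mult k X L (P : X.Modules))
      (fun _ => one_le_mult hdim hpure hL htf F.arrow hF hF0) (fun _ => mult_le hdim hL F.arrow hF hE) T.nv)).1
    simp only [DecSh.WFilt.single, Fin.sum_univ_one, one_mul, DecSh.TF.mu] at hc' hmu
    rw [hα] at hmu hc'
    rw [hem] at hc'
    exact numeric_single hN hmN hα1 (Nat.cast_nonneg a) hδ.le (Nat.cast_nonneg _)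
      (by exact_mod_cast hαQ) (by exact_mod_cast hfew) hmu hc'

end Groth.Agent.DecShLib
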