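import Groth.Agent.DecShLib.Sect
import Groth.Agent.Snapper.DimVanish
import Groth.Agent.Lib.CurveRR
import Groth.Agent.FFun.Basic
import Groth.Agent.HilbPoly.Stab
import Groth.Agent.Lib.CurveBundle
import Groth.Agent.Lib.CurveDualPrep

/-!
# Uniform vanishing for torsion free sheaves on a reduced curve with bounded subsheaves
-/

set_option autoImplicit false
set_option linter.style.haveILetI false
set_option linter.unusedSectionVars false
set_option backward.isDefEq.respectTransparency false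
set_option backward.isDefEq.respectTransparency.types false
set_option maxHeartbeats 1600000

universe u

open CategoryTheory CategoryTheory.Limits AlgebraicGeometry TopologicalSpace Opposite
open Groth.Agent.PnCoh.Finite (mapLin deltaLin)

noncomputable section

namespace Groth.Agent.DecShLib

open Groth.Agent Groth.Agent.H23 Groth.Agent.H23.PicMul
attribute [local instance] PicMul.clMonoid

variable {X : Scheme.{u}} {k : Type u} [Field k] [X.Over (Spec (CommRingCat.of k))]
  [IsProper (X ↘ Spec (CommRingCat.of k))] {N : X.Modules}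

theorem isCoh_tw [IsNoetherian X] (hN : PicF.IsInvertible N) {M : X.Modules} (hM : Coh.IsCoh M) :
    Coh.IsCoh ((AmpleVan.tw N).obj M) :=
  AmpleVan.isCoh_tensor hM (AmpleVan.isCoh_invertible hN)

theorem surjective_f_one {S : ShortComplex X.Modules} (hS : S.ShortExact)
    (h₃ : Subsingleton (Coh.HH X S.X₃ 1)) : Function.Surjective (mapLin k S.f 1) := fun y =>
  (CurveCohLib.ker_mapLin_g k hS 1).le (LinearMap.mem_ker.2 (Subsingleton.elim _ _))

/-- The connecting map vanishes if first cohomology groups have the same dimension. -/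
theorem surjective_g_zero_of_finrank {S : ShortComplex X.Modules} (hS : S.ShortExact)
    (h₁ : Coh.IsCoh S.X₁) (h₂ : Coh.IsCoh S.X₂) (h₃ : Subsingleton (Coh.HH X S.X₃ 1))
    (he : Module.finrank k (Coh.HH X S.X₁ 1) = Module.finrank k (Coh.HH X S.X₂ 1)) :
    Function.Surjective (mapLin k S.g 0) := by
  haveI := CurveCohLib.isNoetherian_of_proper (k := k) (X := X)
  haveI := S0002.result k X S.X₁ h₁ 1
  haveI := S0002.result k X S.X₂ h₂ 1
  have hinj : Function.Injective (mapLin k S.f 1) :=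
    (LinearMap.injective_iff_surjective_of_finrank_eq_finrank he).2 (surjective_f_one hS h₃)
  intro y
  refine (CurveCohLib.ker_deltaLin k hS 0).le (LinearMap.mem_ker.2 (hinj ?_))
  rw [map_zero]
  exact LinearMap.mem_ker.1 ((CurveCohLib.ker_mapLin_f_succ k hS 0).ge ⟨y, rfl⟩)

theorem injective_f_one_of_surjective {S : ShortComplex X.Modules} (hS : S.ShortExact)
    (h : Function.Surjective (mapLin k S.g 0)) : Function.Injective (mapLin k S.f 1) := by
  rw [← LinearMap.ker_eq_bot, eq_bot_iff, CurveCohLib.ker_mapLin_f_succ k hS 0]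
  rintro _ ⟨y, rfl⟩
  exact LinearMap.mem_ker.1 ((CurveCohLib.ker_deltaLin k hS 0).ge (h y))

variable (k) in
include k in
theorem subsingleton_HH_closedPts {C : X.Modules} (hC : Coh.IsCoh C)
    (hcl : ∀ x ∈ CohB1.support C, IsClosed ({x} : Set X)) : Subsingleton (Coh.HH X C 1) := by
  haveI := CurveCohLib.isNoetherian_of_proper (k := k) (X := X)
  exact (Euler.good_of_support hC fun x hx => (hcl x hx).closure_eq).1 1 le_rfl

theorem shortExact_itw (hN : PicF.IsInvertible N) (n : ℕ) {S : ShortComplex X.Modules} (hS : S.ShortExact) :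
    (ShortComplex.mk ((AmpleVan.itw N n).map S.f) ((AmpleVan.itw N n).map S.g)
      (by haveI := AmpleVan.isEquivalence_itw hN n; rw [← Functor.map_comp, S.zero, Functor.map_zero])).ShortExact := by
  haveI := AmpleVan.isEquivalence_itw hN n
  exact hS.map_of_exact _

theorem bijective_f_one {A B C : X.Modules} (f : A ⟶ B) (g : B ⟶ C) (w : f ≫ g = 0)
    (h : (ShortComplex.mk f g w).ShortExact) (hg : Function.Surjective (mapLin k g 0))
    (hC : Subsingleton (Coh.HH X C 1)) : Function.Bijective (mapLin k f 1) :=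
  ⟨injective_f_one_of_surjective (S := ShortComplex.mk f g w) h hg,
    surjective_f_one (S := ShortComplex.mk f g w) h hC⟩

theorem shortExact_tw (hN : PicF.IsInvertible N) {S : ShortComplex X.Modules} (hS : S.ShortExact) :
    (ShortComplex.mk ((AmpleVan.tw N).map S.f) ((AmpleVan.tw N).map S.g)
      (by haveI := AmpleVan.isEquivalence_tw hN; rw [← Functor.map_comp, S.zero, Functor.map_zero])).ShortExact := by
  haveI := AmpleVan.isEquivalence_tw hN
  exact hS.map_of_exact _

theorem exists_iso_itw (N M : X.Modules) (n : ℕ) :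
    Nonempty ((AmpleVan.itw N n).obj ((AmpleVan.tw N).obj M) ≅ (AmpleVan.itw N (n + 1)).obj M) := cl_eq_iff.1 (by
  rw [AmpleVan.cl_itw, AmpleVan.cl_itw, pow_succ', ← mul_assoc]
  exact congrArg (· * _) (cl_tensor _ _))

variable (k) in
include k in
/-- The decrease of the first cohomology along twists. -/
theorem h1_drop [Infinite k] (hN : PicF.IsInvertible N)
    (hser : ∀ M : X.Modules, Coh.IsCoh M → ∃ d, Subsingleton (Coh.HH X ((AmpleVan.itw N d).obj M) 1))
    {κ : Type u} [Finite κ] (σ : κ → (Coh.structureModule X ⟶ N))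
    (hcov : ∀ x : X, ∃ j, x ∈ CohB1.genLocus N (σ j)) :
    ∀ (B : ℕ) (S : ShortComplex X.Modules), S.ShortExact → Coh.IsCoh S.X₁ → Coh.IsCoh S.X₂ → Coh.IsCoh S.X₃ →
      (∀ x ∈ CohB1.support S.X₃, IsClosed ({x} : Set X)) →
      Nonempty (S.X₂ ≅ (AmpleVan.tw N).obj S.X₁) →
      Module.finrank k (Coh.HH X ((AmpleVan.itw N B).obj S.X₁) 1) ≤
        Module.finrank k (Coh.HH X S.X₁ 1) - B := by
  haveI := CurveCohLib.isNoetherian_of_proper (k := k) (X := X)
  intro B
  induction B with
  | zero =>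
    intro S _ _ _ _ _ _
    exact le_rfl
  | succ B ih =>
    intro S hS h₁ h₂ h₃ hcl he
    obtain ⟨e⟩ := he
    haveI := S0002.result k X S.X₁ h₁ 1
    haveI := S0002.result k X S.X₂ h₂ 1
    have hv := subsingleton_HH_closedPts k h₃ hcl
    have hle : Module.finrank k (Coh.HH X S.X₂ 1) ≤ Module.finrank k (Coh.HH X S.X₁ 1) :=
      LinearMap.finrank_le_finrank_of_surjective (surjective_f_one hS hv)
    rcases lt_or_eq_of_le hle with hlt | heq
    · have hb := (CurveCohLib.hhEquiv (k := k) e 1).finrank_eq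
      have a₁ := isCoh_tw hN h₁
      have a₂ := isCoh_tw hN h₂
      have a₃ := isCoh_tw hN h₃
      have hS' := shortExact_tw hN hS
      have h := ih _ hS' a₁ a₂ a₃
        (fun x hx => hcl x (HilbPoly.support_tensor_subset _ _ hx)) ⟨(AmpleVan.tw N).mapIso e⟩
      obtain ⟨e'⟩ := exists_iso_itw N S.X₁ B
      rw [← (CurveCohLib.hhEquiv (k := k) e' 1).finrank_eq]
      refine h.trans ?_
      show Module.finrank k (Coh.HH X ((AmpleVan.tw N).obj S.X₁) 1) - B ≤ _
      omega
    · haveI : ∀ n, (AmpleVan.itw N n).IsEquivalence := fun n => AmpleVan.isEquivalence_itw hN n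
      have hcoh : ∀ n {M : X.Modules}, Coh.IsCoh M → Coh.IsCoh ((AmpleVan.itw N n).obj M) := fun n _ hM =>
        AmpleVan.isCoh_itw hN hM n
      have hclp : ∀ n, ∀ x ∈ CohB1.support ((AmpleVan.itw N n).obj S.X₃), IsClosed ({x} : Set X) := by
        intro n
        induction n with
        | zero => exact hcl
        | succ n ihn => exact fun x hx => ihn x (HilbPoly.support_tensor_subset _ _ hx)
      have hsurj : ∀ n, Function.Surjective (mapLin k ((AmpleVan.itw N n).map S.g) 0) := by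
        intro n
        induction n with
        | zero => exact surjective_g_zero_of_finrank hS h₁ h₂ hv heq.symm
        | succ n ihn =>
          obtain ⟨s, hs⟩ := exists_avoid_section k hN σ hcov
            (CurveCohLib.finite_of_closedPoints (QCoh.isClosed_support_of_isFT (hcoh n h₃).1 (hcoh n h₃).2) (hclp n))
          haveI := isIso_mulSec_of_subset hN (hcoh n h₃) s hs
          intro y
          obtain ⟨z, hz⟩ := ihn (mapLin k (inv (AmpleVan.mulSec (InvX.one s) ((AmpleVan.itw N n).obj S.X₃))) 0 y)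
          refine ⟨mapLin k (AmpleVan.mulSec (InvX.one s) ((AmpleVan.itw N n).obj S.X₂)) 0 z, ?_⟩
          refine (FFun.mapLin_comp (A := k) _ _ 0 z).trans ?_
          rw [show AmpleVan.mulSec (InvX.one s) ((AmpleVan.itw N n).obj S.X₂) ≫ (AmpleVan.itw N (n + 1)).map S.g =
            (AmpleVan.itw N n).map S.g ≫ AmpleVan.mulSec (InvX.one s) ((AmpleVan.itw N n).obj S.X₃) from
            (AmpleVan.mulSec_naturality _ _).symm, ← FFun.mapLin_comp, hz, FFun.mapLin_comp, IsIso.inv_hom_id]
          exact CurveDuality.mapLin_id k _ 0 y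
      have hstep : ∀ n, Module.finrank k (Coh.HH X ((AmpleVan.itw N (n + 1)).obj S.X₁) 1) =
          Module.finrank k (Coh.HH X ((AmpleVan.itw N n).obj S.X₁) 1) := fun n => by
        haveI := S0002.result k X _ (hcoh n h₁) 1
        haveI := S0002.result k X _ (hcoh n h₂) 1
        have hbij : Function.Bijective (mapLin k ((AmpleVan.itw N n).map S.f) 1) :=
          bijective_f_one _ _ _ (shortExact_itw hN n hS) (hsurj n)
            (subsingleton_HH_closedPts k (hcoh n h₃) (hclp n))
        rw [(LinearEquiv.ofBijective _ hbij).finrank_eq]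
        have e' : Nonempty ((AmpleVan.itw N n).obj S.X₂ ≅ (AmpleVan.itw N (n + 1)).obj S.X₁) := cl_eq_iff.1 (by
          rw [AmpleVan.cl_itw, AmpleVan.cl_itw, cl_eq_iff.2 ⟨e⟩, pow_succ', ← mul_assoc]
          exact congrArg (· * _) (cl_tensor _ _))
        obtain ⟨e'⟩ := e'
        exact (CurveCohLib.hhEquiv (k := k) e' 1).finrank_eq.symm
      have hconst : ∀ n, Module.finrank k (Coh.HH X ((AmpleVan.itw N n).obj S.X₁) 1) =
          Module.finrank k (Coh.HH X S.X₁ 1) := by
        intro n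
        induction n with
        | zero => rfl
        | succ n ihn => rw [hstep, ihn]
      obtain ⟨d₀, hd₀⟩ := hser _ h₁
      have h0 : Module.finrank k (Coh.HH X S.X₁ 1) = 0 := by
        haveI := hd₀
        rw [← hconst d₀]
        exact Module.finrank_zero_of_subsingleton
      rw [hconst, h0]
      exact Nat.zero_le _

variable (k) in
include k in
/-- Vanishing of the first cohomology after enough twists. -/
theorem vanish_of_seq [Infinite k] (hN : PicF.IsInvertible N)
    (hser : ∀ M : X.Modules, Coh.IsCoh M → ∃ d, Subsingleton (Coh.HH X ((AmpleVan.itw N d).obj M) 1))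
    {κ : Type u} [Finite κ] (σ : κ → (Coh.structureModule X ⟶ N))
    (hcov : ∀ x : X, ∃ j, x ∈ CohB1.genLocus N (σ j))
    (B : ℕ) (S : ShortComplex X.Modules) (hS : S.ShortExact) (h₁ : Coh.IsCoh S.X₁) (h₂ : Coh.IsCoh S.X₂)
    (h₃ : Coh.IsCoh S.X₃) (hcl : ∀ x ∈ CohB1.support S.X₃, IsClosed ({x} : Set X))
    (he : Nonempty (S.X₂ ≅ (AmpleVan.tw N).obj S.X₁)) (hB : Module.finrank k (Coh.HH X S.X₁ 1) ≤ B) :
    Subsingleton (Coh.HH X ((AmpleVan.itw N B).obj S.X₁) 1) := by
  haveI := CurveCohLib.isNoetherian_of_proper (k := k) (X := X)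
  haveI := S0002.result k X _ (AmpleVan.isCoh_itw hN h₁ B) 1
  have h := h1_drop k hN hser σ hcov B S hS h₁ h₂ h₃ hcl he
  exact Module.finrank_zero_iff.1 (show Module.finrank k _ = 0 by omega)

variable {L : X.Modules}

/-- Values of the Hilbert polynomial of a twist. -/
theorem euler_twist_linear [IsNoetherian X] (hdim : topologicalKrullDim X = 1) (hL : CohB1.IsAmple L)
    {F : X.Modules} (hF : Coh.IsCoh F) (t : ℕ) :
    Curv2.euler k X (ShStab.twist X L F t) = Curv2.euler k X F + (t : ℤ) * DecSh.mult k X L F ∧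
      DecSh.mult k X L (ShStab.twist X L F t) = DecSh.mult k X L F := by
  obtain ⟨P, hP, hdeg, -⟩ := HilbPoly.exists_hilb (k := k) hL.1 hF (dim_le_one hdim F)
  have hlin : ∀ j : ℕ, (Curv2.euler k X (ShStab.twist X L F j) : ℚ) = P.coeff 1 * j + P.coeff 0 := fun j => by
    rw [hP j]
    conv_lhs => rw [P.eq_X_add_C_of_natDegree_le_one hdeg]
    simp
  have h0 : Curv2.euler k X (ShStab.twist X L F 0) = Curv2.euler k X F :=
    (HilbPoly.additive_euler k).iso _ _ ⟨AmpleVan.twUnit.app F⟩
  have h1 : ∀ j, Curv2.euler k X (CohB1.tensorMod (ShStab.twist X L F j) L) =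
      Curv2.euler k X (ShStab.twist X L F (j + 1)) := fun j =>
    (HilbPoly.additive_euler k).iso _ _ (cl_eq_iff.1 (by
      show PicF.cl (CohB1.tensorMod (CohB1.tensorMod F _) L) = PicF.cl (CohB1.tensorMod F _)
      rw [cl_tensor, cl_tensor, cl_tensor, cl_tensorPow, cl_tensorPow, pow_succ, mul_assoc]))
  have hm : (DecSh.mult k X L F : ℚ) = P.coeff 1 := by
    have hF1 : Curv2.euler k X (CohB1.tensorMod F L) = Curv2.euler k X (ShStab.twist X L F 1) :=
      (HilbPoly.additive_euler k).iso _ _ (cl_eq_iff.1 (by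
        show PicF.cl (CohB1.tensorMod F L) = PicF.cl (CohB1.tensorMod F _)
        rw [cl_tensor, cl_tensor, cl_tensorPow, pow_one]))
    have a0 := hlin 0
    have a1 := hlin 1
    rw [h0] at a0
    rw [DecSh.mult, hF1]
    push_cast at *
    linarith
  refine ⟨?_, ?_⟩
  · have a0 := hlin 0
    rw [h0] at a0
    have : (Curv2.euler k X (ShStab.twist X L F t) : ℚ) = Curv2.euler k X F + (t : ℚ) * DecSh.mult k X L F := by
      rw [hlin t, hm]; push_cast at a0 ⊢; linarith
    exact_mod_cast this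
  · have : (DecSh.mult k X L (ShStab.twist X L F t) : ℚ) = DecSh.mult k X L F := by
      rw [DecSh.mult, h1, Int.cast_sub, hlin, hlin, hm]; push_cast; ring
    exact_mod_cast this

variable (k) in
include k in
/-- Quotients of the structure sheaf have Euler characteristic bounded below. -/
theorem le_euler_of_quot [IsNoetherian X] (hdim : topologicalKrullDim X = 1) {S : ShortComplex X.Modules}
    (hS : S.ShortExact) (h₁ : Coh.IsCoh S.X₁) (h₂ : Coh.IsCoh S.X₂) (h₃ : Coh.IsCoh S.X₃) :
    Curv2.euler k X S.X₂ - (Module.finrank k (Coh.HH X S.X₂ 0) : ℤ) ≤ Curv2.euler k X S.X₃ := by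
  have hd1 : topologicalKrullDim X ≤ ((1 : ℕ) : WithBot ℕ∞) := by rw [hdim]; rfl
  haveI : X.IsSeparated := AmpleVan.isSeparated_of_proper (A := k)
  have hadd : Curv2.euler k X S.X₂ = Curv2.euler k X S.X₁ + Curv2.euler k X S.X₃ :=
    (HilbPoly.additive_euler k).add S hS h₁ h₂ h₃
  have hK1 : Curv2.euler k X S.X₁ =
      (Module.finrank k (Coh.HH X S.X₁ 0) : ℤ) - Module.finrank k (Coh.HH X S.X₁ 1) := by
    rw [Euler.euler_eq_sum k S.X₁ 2 fun i hi => Snapper.subsingleton_HH_of_dim_le hd1 h₁.1 hi,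
      Finset.sum_range_succ, Finset.sum_range_one]
    simp
    ring
  have hfin := S0002.result k X S.X₂ h₂ 0
  have hle : Module.finrank k (Coh.HH X S.X₁ 0) ≤ Module.finrank k (Coh.HH X S.X₂ 0) :=
    LinearMap.finrank_le_finrank_of_injective (f := mapLin k S.f 0) (CurveCohLib.mapLin_f_zero_injective k hS)
  omega

theorem eq_zero_of_isZero_tw {L : X.Modules} (hL : PicF.IsInvertible L) {M : X.Modules}
    (h : IsZero ((AmpleVan.tw L).obj M)) : IsZero M := by
  haveI := AmpleVan.isEquivalence_tw hL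
  rw [IsZero.iff_id_eq_zero]
  apply (AmpleVan.tw L).map_injective
  exact h.eq_of_src _ _

/-- Uniform vanishing for torsion free sheaves whose subsheaves have bounded Euler characteristic. -/
theorem exists_vanish [AlgebraicGeometry.IsReduced X] [Infinite k] (hdim : topologicalKrullDim X = 1)
    (hpure : ∀ x : X, ¬ IsOpen ({x} : Set X)) (hL : CohB1.IsAmple L) (α e : ℤ) (C : ℚ) :
    ∃ m₀ : ℕ, ∀ F : X.Modules, Coh.IsCoh F → TorSh.IsTorsionFree F → DecSh.mult k X L F = α →
      Curv2.euler k X F = e →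
      (∀ (G : X.Modules) (ι : G ⟶ F), Mono ι → Coh.IsCoh G → ¬ IsZero G → (Curv2.euler k X G : ℚ) ≤ C) →
      ∀ m : ℕ, m₀ ≤ m → Subsingleton (Coh.HH X (ShStab.twist X L F m) 1) := by
  haveI := CurveCohLib.isNoetherian_of_proper (k := k) (X := X)
  haveI : X.IsSeparated := AmpleVan.isSeparated_of_proper (A := k)
  obtain ⟨p, hp, κ, _, σ, -, -, hcov⟩ := AmpleX.exists_cover_genLocus hL
  let N := CohB1.tensorPow L p
  have hN : PicF.IsInvertible N := InvX.isInvertible_tensorPow hL.1 p
  have hOc : Coh.IsCoh (Coh.structureModule X) := CurveDeg.isCoh_of_isInvertible InvX.isInvertible_structureModule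
  have hd1 : topologicalKrullDim X ≤ ((1 : ℕ) : WithBot ℕ∞) := by rw [hdim]; rfl
  obtain ⟨c, hc⟩ : ∃ c : ℤ, c = Curv2.euler k X (Coh.structureModule X) -
    (Module.finrank k (Coh.HH X (Coh.structureModule X) 0) : ℤ) := ⟨_, rfl⟩
  obtain ⟨n₀, hn₀⟩ : ∃ n₀ : ℕ, C - (c : ℚ) < (n₀ : ℚ) := exists_nat_gt _
  let B : ℕ := (n₀ + p) * α.natAbs + e.natAbs
  refine ⟨p * (B + 1), fun F hF htf hα he hsub m hm => ?_⟩
  let j := (m + n₀) / p + 1
  have hj1 : m + n₀ < p * j := by
    have := Nat.lt_div_mul_add (a := m + n₀) hp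
    show _ < p * ((m + n₀) / p + 1)
    rw [mul_add, mul_one, mul_comm]
    exact this
  have hj2 : p * j ≤ m + n₀ + p := by
    show p * ((m + n₀) / p + 1) ≤ _
    rw [mul_add, mul_one]
    exact Nat.add_le_add_right (Nat.mul_div_le _ _) _
  have hjB : B ≤ j := by
    have : p * B ≤ p * j := by
      have : p * B ≤ p * (B + 1) := Nat.mul_le_mul_left _ (Nat.le_succ _)
      omega
    exact Nat.le_of_mul_le_mul_left this hp
  let t := p * j - m
  have ht : n₀ ≤ t ∧ t ≤ n₀ + p := by omega
  obtain ⟨A, hA, ⟨eA⟩⟩ := H23.PicInv.exists_inverse (InvX.isInvertible_tensorPow hL.1 t)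
  let F₀ := CohB1.tensorMod F A
  have hF₀ : Coh.IsCoh F₀ := AmpleVan.isCoh_tensor hF (AmpleVan.isCoh_invertible hA)
  have hinv : PicF.cl L ^ t * PicF.cl A = 1 := by
    rw [← cl_tensorPow]
    exact (cl_tensor _ _).symm.trans (cl_eq_iff.2 ⟨eA⟩)
  obtain ⟨φ⟩ : Nonempty (ShStab.twist X L F₀ t ≅ F) := cl_eq_iff.1 (by
    show PicF.cl (CohB1.tensorMod (CohB1.tensorMod F A) _) = _
    rw [cl_tensor, cl_tensor, cl_tensorPow, mul_assoc, mul_comm (PicF.cl A), hinv, mul_one])
  obtain ⟨he₀, hα₀⟩ := euler_twist_linear (k := k) hdim hL hF₀ t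
  have hφe : Curv2.euler k X (ShStab.twist X L F₀ t) = e := ((HilbPoly.additive_euler k).iso _ _ ⟨φ⟩).trans he
  have hφα : DecSh.mult k X L (ShStab.twist X L F₀ t) = α :=
    ((HilbPoly.additive_lead (HilbPoly.additive_euler k) hL.1 1).iso _ _ ⟨φ⟩).trans hα
  haveI := AmpleVan.isEquivalence_tw (InvX.isInvertible_tensorPow hL.1 t)
  -- no sections
  have hh0 : Module.finrank k (Coh.HH X F₀ 0) = 0 := by
    by_contra hne
    obtain ⟨s, hs⟩ := CurveRR.exists_hom_ne_zero k hne
    obtain ⟨K, I, a, q, b, w, hfac, -, hb, hq, hS, hKc, hIc⟩ := HilbPoly.exists_factor (k := k) hOc hF₀ s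
    haveI := hb
    have hI0 : ¬ IsZero I := fun h => hs (by rw [← hfac, h.eq_of_tgt q 0, zero_comp])
    let G := ShStab.twist X L I t
    let ι : G ⟶ F := (AmpleVan.tw (CohB1.tensorPow L t)).map b ≫ φ.hom
    haveI : Mono ι := mono_comp _ _
    have hGc : Coh.IsCoh G := isCoh_tw (InvX.isInvertible_tensorPow hL.1 t) hIc
    have hG0 : ¬ IsZero G := fun h => hI0 (eq_zero_of_isZero_tw (InvX.isInvertible_tensorPow hL.1 t) h)
    have hb1 := hsub G ι inferInstance hGc hG0
    obtain ⟨heI, hαI⟩ := euler_twist_linear (k := k) hdim hL hIc t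
    have hαI1 : 1 ≤ DecSh.mult k X L I := hαI ▸ one_le_mult hdim hpure hL htf ι hGc hG0
    haveI : Mono a := hS.mono_f
    have hcI : c ≤ Curv2.euler k X I := by
      rw [hc]
      exact le_euler_of_quot k hdim (S := ShortComplex.mk a q w) hS hKc hOc hIc
    have h1 : (c : ℚ) + t ≤ Curv2.euler k X G := by
      have : c + (t : ℤ) ≤ Curv2.euler k X G := by
        rw [heI]
        have : (t : ℤ) ≤ (t : ℤ) * DecSh.mult k X L I := le_mul_of_one_le_right (Int.natCast_nonneg t) hαI1
        omega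
      exact_mod_cast this
    have h3 : (n₀ : ℚ) ≤ t := by exact_mod_cast ht.1
    linarith
  have hh1 : Module.finrank k (Coh.HH X F₀ 1) ≤ j := by
    have h := Euler.euler_eq_sum k F₀ 2 fun i hi => Snapper.subsingleton_HH_of_dim_le hd1 hF₀.1 hi
    rw [Finset.sum_range_succ, Finset.sum_range_one, hh0] at h
    simp only [pow_zero, pow_one, Nat.cast_zero, mul_zero, zero_add, neg_mul, one_mul] at h
    rw [hφe, ← hα₀, hφα] at he₀
    have h4 : (t : ℤ) * α ≤ ((n₀ + p : ℕ) : ℤ) * (α.natAbs : ℤ) :=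
      (mul_le_mul_of_nonneg_left Int.le_natAbs (Int.natCast_nonneg t)).trans
        (mul_le_mul_of_nonneg_right (by exact_mod_cast ht.2) (Int.natCast_nonneg _))
    have h5 : -e ≤ (e.natAbs : ℤ) := by omega
    have h6 : ((B : ℕ) : ℤ) = ((n₀ + p : ℕ) : ℤ) * (α.natAbs : ℤ) + (e.natAbs : ℤ) := by
      show (((n₀ + p) * α.natAbs + e.natAbs : ℕ) : ℤ) = _
      push_cast
      ring
    have h7 : (Module.finrank k (Coh.HH X F₀ 1) : ℤ) ≤ (B : ℤ) := by linarith
    omega
  -- the sequence
  have hnp : NoPt F₀ := fun K ι hι hK hKcl => by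
    let ι' : ShStab.twist X L K t ⟶ F := (AmpleVan.tw (CohB1.tensorPow L t)).map ι ≫ φ.hom
    haveI := hι
    haveI : Mono ι' := mono_comp _ _
    have hz := isZero_of_closedSupport hpure htf ι' (isCoh_tw (InvX.isInvertible_tensorPow hL.1 t) hK)
      fun x hx => hKcl x (HilbPoly.support_tensor_subset _ _ hx)
    exact eq_zero_of_isZero_tw (InvX.isInvertible_tensorPow hL.1 t) hz
  obtain ⟨s, hs⟩ := exists_avoid_section k hN σ hcov (genericPoints.finite (α := X)
    NoetherianSpace.finite_irreducibleComponents)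
  obtain ⟨hmono, hcl⟩ := mono_mulSec hdim hN hF₀ hnp s hs
  haveI := hmono
  let S := ShortComplex.mk (AmpleVan.mulSec (InvX.one s) F₀) (cokernel.π _) (cokernel.condition _)
  have hS : S.ShortExact :=
    .mk' (ShortComplex.exact_of_g_is_cokernel _ (cokernelIsCokernel _)) hmono inferInstance
  have hser : ∀ M : X.Modules, Coh.IsCoh M → ∃ d, Subsingleton (Coh.HH X ((AmpleVan.itw N d).obj M) 1) :=
    fun M hM => by
      obtain ⟨d₀, hd₀⟩ := AmpleVan.exists_vanishing (A := k) hL hM
      obtain ⟨θ⟩ : Nonempty ((AmpleVan.itw N d₀).obj M ≅ CohB1.tensorMod M (CohB1.tensorPow L (p * d₀))) :=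
        cl_eq_iff.1 (by rw [AmpleVan.cl_itw, cl_tensor, cl_tensorPow, cl_tensorPow, ← pow_mul])
      exact ⟨d₀, QCoh.subsingleton_HH_of_iso θ.symm 1 (hd₀ (p * d₀) (Nat.le_mul_of_pos_left _ hp) 0)⟩
  have h := vanish_of_seq k hN hser σ hcov j S hS hF₀ (isCoh_tw hN hF₀)
    (QCoh.isCoh_cokernel hF₀.1 (isCoh_tw hN hF₀) _) hcl ⟨Iso.refl _⟩ hh1
  obtain ⟨θ⟩ : Nonempty ((AmpleVan.itw N j).obj F₀ ≅ ShStab.twist X L F m) := cl_eq_iff.1 (by
    show _ = PicF.cl (CohB1.tensorMod F _)
    rw [AmpleVan.cl_itw, cl_tensor, cl_tensor, cl_tensorPow, cl_tensorPow, ← pow_mul,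
      show p * j = t + m by omega, pow_add, ← mul_assoc, mul_assoc (PicF.cl F), mul_comm (PicF.cl A), hinv,
      mul_one])
  exact QCoh.subsingleton_HH_of_iso θ 1 h

end Groth.Agent.DecShLib
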